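import Cfsg.Agent.Lib.Fusion.RankThreePearl.Layers

/-!
The class three kind is characteristic in an extension by a transvection.
-/

set_option autoImplicit false
set_option linter.unusedSectionVars false
set_option linter.style.haveILetI false

namespace CfsgLib.RankThreePearl

open Subgroup
open CfsgLib.PolySeq (fil fil_antitone fil_commutator_mem)
open scoped commutatorElement

variable {p : ℕ} [hpf : Fact p.Prime]

theorem zpow_eq_one_or {G : Type*} [Group G] {x : G} (hx : x ^ p = 1) {i : ℤ} (hi : x ^ i = 1) :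
    x = 1 ∨ (p : ℤ) ∣ i := by
  by_cases h : x = 1
  · exact Or.inl h
  · refine Or.inr ?_
    rw [← orderOf_eq_prime hx h]
    exact orderOf_dvd_iff_zpow_eq_one.mpr hi

theorem zpow_eq_one_of_dvd {G : Type*} [Group G] {x : G} (hx : x ^ p = 1) {i : ℤ} (hi : (p : ℤ) ∣ i) : x ^ i = 1 := by
  obtain ⟨k, rfl⟩ := hi
  rw [zpow_mul, zpow_natCast, hx, one_zpow]

variable {N : Type*} [Group N] [Finite N]

set_option maxHeartbeats 2000000 in
theorem char_of_two {E : Subgroup N} [E.Normal] (D : Two p E) {g : N} (hidx : E.index = p)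
    (hr : ∀ e : E, ((D.r e : E) : N) = g * e * g⁻¹)
    (hker : ∀ x : N, (∀ e : E, e⁻¹ * MulAut.conjNormal x e ∈ frattini E) → x ∈ E)
    (h3 : fil E 3 ≠ ⊥) (β : MulAut N) {x : N} (hx : x ∈ E) : β x ∈ E := by
  obtain ⟨a, b, hgen, hb, hab, hbb⟩ := D.exists_gens
  have G : D.Gens a b := ⟨hgen, hb, hab, hbb⟩
  have h4 : fil E 4 = ⊥ := G.four_eq_bot h3
  set c := ⁅a, b⁆ with hc
  set d := ⁅c, a⁆ with hd
  set f := ⁅c, b⁆ with hf
  have htriv : ∀ {y : E}, pr E 4 y = 1 → y = 1 := fun h => by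
    have := pr_eq_one.mp h
    rwa [h4, mem_bot] at this
  have hinj : ∀ {y z : E}, pr E 4 y = pr E 4 z → y = z := fun {y z} h => by
    refine (inv_mul_eq_one.mp (htriv ?_))
    rw [map_mul, map_inv, h, inv_mul_cancel]
  have hd3 : d ∈ fil E 3 := cx_mem a b a
  have hf3 : f ∈ fil E 3 := cx_mem a b b
  have hcz : ∀ y ∈ fil E 3, ∀ e : E, y * e = e * y := fun y hy e => by
    rw [← commutatorElement_eq_one_iff_mul_comm]
    exact Subgroup.mem_bot.mp (h4 ▸ fil_commutator_mem hy (mem_one e))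
  have hf1 : f ≠ 1 := fun h => G.f_not h3 (show f ∈ _ by rw [h]; exact one_mem _)
  have hfp : f ^ p = 1 := Subgroup.mem_bot.mp (h4 ▸ G.pow_three_mem hf3)
  have hdp : d ^ p = 1 := Subgroup.mem_bot.mp (h4 ▸ G.pow_three_mem hd3)
  have hrd : D.r d = d * f := by
    have hra : D.r a = a * b := by rw [← hab, mul_inv_cancel_left]
    refine hinj ?_
    have hrc : c⁻¹ * D.r c ∈ fil E 3 := by
      rw [← QuotientGroup.eq]
      show pr E (1 + 1 + 1) c = pr E (1 + 1 + 1) (D.r c)
      rw [hc, map_commutatorElement D.r, hra, ← pr_congr (mem_one (a * b)) (mem_one b) (by simp)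
        (D.frattini_eq.le hbb), pr_comm_mul_left (mem_one b) (mem_one b), show ⁅b, b⁆ = 1 by simp, map_one, mul_one]
    show pr E (2 + 1 + 1) (D.r d) = pr E (2 + 1 + 1) (d * f)
    rw [hd, map_commutatorElement D.r c a, ← pr_congr (c_mem a b) (mem_one (a * b)) hrc (by rw [hra]; simp),
      pr_comm_mul_right (c_mem a b) (mem_one b), map_mul]
  have hdf : ∀ i : ℤ, d ^ i ∈ zpowers f → (p : ℤ) ∣ i := by
    intro i hi
    have hdne : d ≠ 1 := fun h => G.d_not h3 (show d ∈ _ by rw [h]; exact one_mem _)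
    by_contra hni
    refine G.d_not h3 (mem_sup_right ?_)
    have hco : IsCoprime (p : ℤ) i := (Nat.prime_iff_prime_int.mp hpf.out).coprime_iff_not_dvd.mpr hni
    obtain ⟨u, v, huv⟩ := hco
    have h := zpow_mem hi v
    rwa [← zpow_mul, show i * v = 1 - (p : ℤ) * u by linarith, zpow_sub, zpow_one,
      zpow_eq_one_of_dvd hdp (dvd_mul_right _ u), inv_one, mul_one] at h
  -- the third layer as elements
  have hL3 : ∀ y ∈ fil E 3, ∃ i j : ℤ, y = d ^ i * f ^ j := by
    intro y hy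
    have h := G.gen_three hy
    rw [h4, bot_sup_eq] at h
    have hdfc : Commute d f := hcz d hd3 f
    clear hy
    induction h using closure_induction with
    | mem z hz =>
      rcases hz with rfl | rfl
      · exact ⟨1, 0, by simp [hd, hc]⟩
      · exact ⟨0, 1, by simp [hf, hc]⟩
    | one => exact ⟨0, 0, by simp⟩
    | mul u v _ _ hu hv =>
      obtain ⟨i, j, rfl⟩ := hu
      obtain ⟨i', j', rfl⟩ := hv
      refine ⟨i + i', j + j', ?_⟩
      rw [zpow_add, zpow_add]
      exact ((hdfc.zpow_zpow i' j).symm).mul_mul_mul_comm _ _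
    | inv u _ hu =>
      obtain ⟨i, j, rfl⟩ := hu
      refine ⟨-i, -j, ?_⟩
      rw [mul_inv_rev, zpow_neg, zpow_neg]
      exact ((hdfc.zpow_zpow i j).inv_inv.symm).eq
  -- the coordinates of an element of the subgroup
  have hcoord : ∀ y : E, (∀ e, ⁅y, e⁆ ∈ fil E 3) → y ∈ fil E 2 := by
    intro y hy
    have hann : y ∈ annih E 1 3 := mem_annih.mpr fun w _ => inv_comm_mem (hy w)
    refine D.frattini_eq.le (G.annih_le le_rfl (fun h => ?_) le_rfl hann)
    exact h3 (fil_eq_bot (k := 2) D.pg (commutator_mono h le_rfl))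
  have hC2 : ∀ y ∈ fil E 2, ⁅y, a⁆ ∈ zpowers f → y ∈ fil E 3 := by
    intro y hy hya
    have h := G.gen_two hy
    rw [← SetLike.mem_coe, Subgroup.normal_mul, Set.mem_mul] at h
    obtain ⟨l, hl, _, ⟨k, rfl⟩, rfl⟩ := h
    refine mul_mem hl ?_
    have e : pr E 4 ⁅l * c ^ k, a⁆ = pr E 4 d ^ k := by
      show pr E (2 + 1 + 1) _ = pr E (2 + 1 + 1) d ^ k
      rw [pr_comm_mul_left (zpow_mem (c_mem a b) k) (mem_one a),
        (pr_eq_one (k := 2 + 1 + 1)).mpr (fil_commutator_mem hl (mem_one a)), one_mul]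
      have key : ∀ n : ℕ, pr E (2 + 1 + 1) ⁅c ^ n, a⁆ = pr E (2 + 1 + 1) d ^ n := by
        intro n
        induction n with
        | zero => simp [commutatorElement_def]
        | succ n ih => rw [pow_succ, pr_comm_mul_left (c_mem a b) (mem_one a), ih, pow_succ]
      obtain ⟨n, rfl | rfl⟩ := k.eq_nat_or_neg
      · rw [zpow_natCast, zpow_natCast, key]
      · have h := pr_comm_mul_left (x := (c ^ (n : ℤ))) (zpow_mem (c_mem a b) (-(n : ℤ))) (mem_one a)
        rw [← zpow_add, add_neg_cancel, zpow_zero, commutatorElement_one_left, map_one, zpow_natCast, key,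
          ← zpow_natCast] at h
        rw [zpow_neg, zpow_neg]
        exact (inv_eq_of_mul_eq_one_right (by rw [zpow_neg] at h; exact h.symm)).symm
    have hk : (p : ℤ) ∣ k := by
      rw [← map_zpow] at e
      refine hdf k ?_
      rw [← hinj e]
      exact hya
    obtain ⟨m, rfl⟩ := hk
    show c ^ ((p : ℤ) * m) ∈ fil E 3
    rw [zpow_mul, zpow_natCast]
    exact zpow_mem G.c_pow m
  -- the second centre lies in the third layer
  have hsub : ∀ y : N, (∀ e : E, y * e * y⁻¹ * (e : N)⁻¹ ∈ (zpowers f).map E.subtype) →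
      ∃ h : y ∈ E, (⟨y, h⟩ : E) ∈ fil E 3 := by
    intro y hy
    have hyE : y ∈ E := by
      refine hker y fun e => ?_
      obtain ⟨w, hw, hwe⟩ := hy e
      have e1 : e⁻¹ * MulAut.conjNormal y e = e⁻¹ * w * e := Subtype.ext (by
        show (e : N)⁻¹ * (y * e * y⁻¹) = (e : N)⁻¹ * (w : N) * e
        rw [show (w : N) = y * e * y⁻¹ * (e : N)⁻¹ from hwe]; group)
      rw [e1, D.frattini_eq]
      have hw2 : w ∈ fil E 2 := (zpowers_le.mpr (fil_antitone (by norm_num) hf3)) hw
      simpa using (inferInstance : (fil E 2).Normal).conj_mem w hw2 e⁻¹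
    refine ⟨hyE, ?_⟩
    have hy' : ∀ e : E, ⁅(⟨y, hyE⟩ : E), e⁆ ∈ zpowers f := fun e => by
      obtain ⟨w, hw, hwe⟩ := hy e
      have e1 : ⁅(⟨y, hyE⟩ : E), e⁆ = w := Subtype.ext hwe.symm
      rw [e1]; exact hw
    exact hC2 _ (hcoord _ fun e => (zpowers_le.mpr hf3) (hy' e)) (hy' a)
  -- the centre
  have hg : g ∉ E := by
    intro hgE
    obtain ⟨a₀, ha₀⟩ := D.moved
    refine ha₀ ?_
    have e1 : D.r a₀ = ⟨g, hgE⟩ * a₀ * (⟨g, hgE⟩ : E)⁻¹ := Subtype.ext (hr a₀)
    rw [e1, D.frattini_eq, show a₀⁻¹ * (⟨g, hgE⟩ * a₀ * (⟨g, hgE⟩ : E)⁻¹) = ⁅a₀⁻¹, ⟨g, hgE⟩⁆ by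
      simp only [commutatorElement_def]; group]
    exact c_mem _ _
  have hdecomp : ∀ y : N, ∃ (i : ℕ) (e : E), y = g ^ i * e := by
    intro y
    have hg1 : (g : N ⧸ E) ≠ 1 := fun h => hg ((QuotientGroup.eq_one_iff g).mp h)
    obtain ⟨i, hi⟩ := mem_powers_iff_mem_zpowers.mpr
      (mem_zpowers_of_prime_card (G := N ⧸ E) (show Nat.card (N ⧸ E) = p from hidx) (g' := (y : N ⧸ E)) hg1)
    refine ⟨i, ⟨(g ^ i)⁻¹ * y, (QuotientGroup.eq).mp ?_⟩, (mul_inv_cancel_left _ _).symm⟩
    rw [QuotientGroup.mk_pow]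
    exact hi
  have hcen : ∀ y : E, y ∈ fil E 3 → D.r y = y → (y : N) ∈ center N := by
    intro y hy hry
    refine mem_center_iff.mpr fun z => ?_
    obtain ⟨i, e, rfl⟩ := hdecomp z
    have h1 : Commute (e : N) (y : N) := congrArg Subtype.val (hcz y hy e).symm
    have h2 : Commute g (y : N) := by
      have := hr y
      rw [hry] at this
      calc g * y = g * y * g⁻¹ * g := by group
        _ = y * g := by rw [← this]
    exact ((h2.pow_left i).mul_left h1).eq
  have hrf : D.r f = f := by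
    obtain ⟨j, hj⟩ := D.r_pow
    have hra : D.r a = a * b := by rw [← hab, mul_inv_cancel_left]
    refine hinj ?_
    have hrc : c⁻¹ * D.r c ∈ fil E 3 := by
      rw [← QuotientGroup.eq]
      show pr E (1 + 1 + 1) c = pr E (1 + 1 + 1) (D.r c)
      rw [hc, map_commutatorElement D.r, hra, ← pr_congr (mem_one (a * b)) (mem_one b) (by simp)
        (D.frattini_eq.le hbb), pr_comm_mul_left (mem_one b) (mem_one b), show ⁅b, b⁆ = 1 by simp, map_one, mul_one]
    show pr E (2 + 1 + 1) (D.r f) = pr E (2 + 1 + 1) f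
    rw [hf, map_commutatorElement D.r c b, ← pr_congr (c_mem a b) (mem_one b) hrc (D.frattini_eq.le hbb)]
  have hfc : (f : N) ∈ center N := hcen f hf3 hrf
  have hcle : ∀ y ∈ center N, y ∈ (zpowers f).map E.subtype := by
    intro y hy
    obtain ⟨hyE, hy3⟩ := hsub y fun e => by
      rw [← mem_center_iff.mp hy (e : N)]
      simp
    obtain ⟨i, j, hij⟩ := hL3 _ hy3
    have hfix : D.r ⟨y, hyE⟩ = ⟨y, hyE⟩ := Subtype.ext (by
      rw [hr]
      show g * y * g⁻¹ = y
      rw [mem_center_iff.mp hy g, mul_inv_cancel_right])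
    rw [hij, map_mul, map_zpow, map_zpow, hrd, hrf, (show Commute d f from hcz d hd3 f).mul_zpow, mul_assoc] at hfix
    have hfi : f ^ i = 1 := by
      have := mul_left_cancel hfix
      rwa [mul_eq_right] at this
    have hi := (zpow_eq_one_or hfp hfi).resolve_left hf1
    refine ⟨⟨y, hyE⟩, ?_, rfl⟩
    rw [hij, zpow_eq_one_of_dvd hdp hi, one_mul]
    exact zpow_mem (mem_zpowers f) j
  -- the image of the third layer
  have himg : ∀ y : E, y ∈ fil E 3 → ∃ h : β (y : N) ∈ E, (⟨β (y : N), h⟩ : E) ∈ fil E 3 := by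
    intro y hy
    refine hsub _ fun e => hcle _ ?_
    have h1 : ∀ z : N, (y : N) * z * (y : N)⁻¹ * z⁻¹ ∈ center N := by
      intro z
      obtain ⟨i, e', rfl⟩ := hdecomp z
      obtain ⟨u, v, huv⟩ := hL3 y hy
      have key : (y : N) * g * (y : N)⁻¹ * g⁻¹ ∈ center N := by
        have e1 : (y : N) * g * (y : N)⁻¹ * g⁻¹ = ((y * (D.r y)⁻¹ : E) : N) := by
          push_cast
          rw [hr]; group
        rw [e1]
        refine hcen _ (mul_mem hy (inv_mem (fil_invariant 3 D.r hy))) ?_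
        have : y * (D.r y)⁻¹ = f ^ (-u) := by
          rw [huv, map_mul, map_zpow, map_zpow, hrd, hrf, (show Commute d f from hcz d hd3 f).mul_zpow, zpow_neg]
          group
          rw [((show Commute d f from hcz d hd3 f).zpow_zpow u (-u)).eq, mul_assoc, zpow_neg d, mul_inv_cancel, mul_one]
        rw [this, map_zpow, hrf]
      have e2 : (y : N) * (g ^ i * e') * (y : N)⁻¹ * (g ^ i * (e' : N))⁻¹ = (y : N) * g ^ i * (y : N)⁻¹ * (g ^ i)⁻¹ := by
        have hye : Commute (y : N) (e' : N) := congrArg Subtype.val (hcz y hy e')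
        rw [show (y : N) * (g ^ i * e') * (y : N)⁻¹ = (y : N) * g ^ i * (y : N)⁻¹ * ((y : N) * e' * (y : N)⁻¹) by group,
          hye.eq, mul_inv_cancel_right, mul_inv_rev]
        group
      rw [e2, ← conj_pow]
      have e3 : (y : N) * g * (y : N)⁻¹ = ((y : N) * g * (y : N)⁻¹ * g⁻¹) * g := by group
      rw [e3, (show Commute ((y : N) * g * (y : N)⁻¹ * g⁻¹) g from (mem_center_iff.mp key g).symm).mul_pow,
        mul_inv_cancel_right]
      exact pow_mem key i
    obtain ⟨z, hz⟩ := β.surjective (e : N)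
    rw [← hz, ← map_mul, ← map_inv, ← map_mul, ← map_inv, ← map_mul]
    exact (Subgroup.characteristic_iff_map_le.mp (inferInstance : (center N).Characteristic) β) ⟨_, h1 z, rfl⟩
  -- the centraliser
  by_contra hn
  obtain ⟨hd', hd''⟩ := himg d hd3
  have hcent : ∀ y : E, y ∈ fil E 3 → Commute (β x) (y : N) := by
    intro y hy
    obtain ⟨z, hz⟩ := β.surjective (y : N)
    obtain ⟨z', hz', hze⟩ : ∃ z' : E, z' ∈ fil E 3 ∧ (z' : N) = z := by
      let T : Subgroup E := fil E 3
      let φ : T → T := fun w => ⟨⟨β ((w : E) : N), (himg w w.2).1⟩, (himg w w.2).2⟩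
      have hφ : Function.Injective φ := fun u v e => Subtype.ext (Subtype.ext (β.injective
        (congrArg (fun w : T => ((w : E) : N)) e)))
      obtain ⟨w, hw⟩ := Finite.injective_iff_surjective.mp hφ ⟨y, hy⟩
      exact ⟨w, w.2, β.injective ((congrArg (fun t : T => ((t : E) : N)) hw).trans hz.symm)⟩
    rw [← hz, ← hze]
    exact (show Commute x (z' : N) from congrArg Subtype.val (hcz z' hz' ⟨x, hx⟩).symm).map β
  obtain ⟨i, e, he⟩ := hdecomp (β x)
  have h1 : Commute (g ^ i) (d : N) := by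
    have := (hcent d hd3).mul_left ((show Commute (d : N) (e : N) from congrArg Subtype.val (hcz d hd3 e)).symm.inv_left)
    rwa [he, mul_inv_cancel_right] at this
  have h2 : ∀ m : ℕ, (D.r ^ m) d = d * f ^ m := by
    intro m
    induction m with
    | zero => simp
    | succ m ih =>
      rw [pow_succ', MulAut.mul_apply, ih, map_mul, map_pow, hrd, hrf, pow_succ', mul_assoc]
  have h3' : ∀ m : ℕ, (((D.r ^ m) d : E) : N) = g ^ m * d * (g ^ m)⁻¹ := by
    intro m
    induction m with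
    | zero => simp
    | succ m ih => rw [pow_succ', MulAut.mul_apply, hr, ih, pow_succ']; group
  have hfi : f ^ i = 1 := by
    have := h3' i
    rw [h1.eq, mul_inv_cancel_right, h2] at this
    exact mul_eq_left.mp (Subtype.ext this)
  obtain ⟨k, rfl⟩ : p ∣ i := orderOf_eq_prime hfp hf1 ▸ orderOf_dvd_of_pow_eq_one hfi
  refine hn ?_
  rw [he]
  refine mul_mem ?_ e.2
  rw [pow_mul]
  refine pow_mem ?_ k
  have h := Subgroup.pow_index_mem E g
  rwa [hidx] at h

end CfsgLib.RankThreePearl
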