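import Cfsg.Agent.Lib.PolynomialSequence
import Cfsg.Agent.Lib.RankFrattini
import Cfsg.Agent.Lib.Elementary
import Cfsg.Agent.Lib.Fusion.EssentialSmall.Basic
import Cfsg.Agent.Lib.Fusion.RankTwoResistant.GroupFacts
import Cfsg.Agent.Lib.AfterFT.OutSmallRank
import Cfsg.Agent.Lib.SectThree.Basic
import Cfsg.Prelude.Def_CaseTheorems

/-!
A two-generator group of sectional rank three with an irreducible action on the Frattini quotient
and a transvection of small order has class at most three.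
-/

set_option autoImplicit false
set_option linter.unusedSectionVars false
set_option linter.style.haveILetI false

namespace CfsgLib.RankThreePearl

open Subgroup
open CfsgLib.PolySeq (fil fil_antitone fil_commutator_mem)
open scoped commutatorElement

variable {p : ℕ} [hpf : Fact p.Prime] {E : Type*} [Group E] [Finite E]

/-- The commutators of a generated group with a generated normal subgroup. -/
theorem commutator_le_of_gens {G : Type*} [Group G] {L N : Subgroup G} [hN : N.Normal] {X : Set G}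
    (hX : closure X = ⊤) {T : Set G} {L' : Subgroup G} (hL : L ≤ L' ⊔ closure T) (hL' : ⁅L', ⊤⁆ ≤ N)
    (hT : ∀ t ∈ T, ∀ x ∈ X, ⁅t, x⁆ ∈ N) : ⁅L, ⊤⁆ ≤ N := by
  set C := (center (G ⧸ N)).comap (QuotientGroup.mk' N)
  have key : ∀ l : G, (∀ x, ⁅l, x⁆ ∈ N) ↔ l ∈ C := fun l => by
    rw [mem_comap, mem_center_iff]
    constructor
    · intro h q
      obtain ⟨x, rfl⟩ := QuotientGroup.mk'_surjective N q
      refine (commutatorElement_eq_one_iff_mul_comm.mp ?_).symm
      rw [← map_commutatorElement]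
      exact (QuotientGroup.eq_one_iff _).mpr (h x)
    · intro h x
      rw [← QuotientGroup.eq_one_iff, ← QuotientGroup.mk'_apply, map_commutatorElement,
        commutatorElement_eq_one_iff_mul_comm]
      exact (h _).symm
  rw [commutator_le]
  intro l hl x _
  refine (key l).mpr (sup_le (fun l' hl' => (key l').mp fun x => hL' (commutator_mem_commutator hl' (mem_top x)))
    ((closure_le _).mpr fun t ht => (key t).mp fun y => ?_) (hL hl)) x
  have h1 : closure X ≤ (centralizer {QuotientGroup.mk' N t}).comap (QuotientGroup.mk' N) := by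
    rw [closure_le]
    intro z hz
    refine mem_centralizer_singleton_iff.mpr ((commutatorElement_eq_one_iff_mul_comm.mp ?_).symm)
    rw [← map_commutatorElement]
    exact (QuotientGroup.eq_one_iff _).mpr (hT t ht z hz)
  rw [← QuotientGroup.eq_one_iff, ← QuotientGroup.mk'_apply, map_commutatorElement, commutatorElement_eq_one_iff_mul_comm]
  exact (mem_centralizer_singleton_iff.mp (h1 (hX.ge (mem_top y)))).symm

/-- The power of a commutator, when the commutator commutes with the first element. -/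
theorem commutator_pow_left {G : Type*} [Group G] {x g : G} (h : Commute x ⁅x, g⁆) (n : ℕ) :
    ⁅x ^ n, g⁆ = ⁅x, g⁆ ^ n := by
  induction n with
  | zero => simp [commutatorElement_def]
  | succ n ih =>
    have e : ⁅x ^ (n + 1), g⁆ = x * ⁅x ^ n, g⁆ * x⁻¹ * ⁅x, g⁆ := by
      simp only [commutatorElement_def]; group
    rw [e, ih, (h.pow_right n).eq, mul_inv_cancel_right, pow_succ]

theorem commutator_pow_left' {G : Type*} [Group G] (N : Subgroup G) [N.Normal] {x g : G}
    (h : ⁅x, ⁅x, g⁆⁆ ∈ N) (n : ℕ) : (⁅x ^ n, g⁆)⁻¹ * ⁅x, g⁆ ^ n ∈ N := by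
  rw [← QuotientGroup.eq_one_iff, QuotientGroup.mk_mul, QuotientGroup.mk_inv, QuotientGroup.mk_pow]
  have hc : Commute (QuotientGroup.mk' N x) ⁅QuotientGroup.mk' N x, QuotientGroup.mk' N g⁆ := by
    rw [← map_commutatorElement]
    refine commutatorElement_eq_one_iff_mul_comm.mp ?_
    rw [← map_commutatorElement]
    exact (QuotientGroup.eq_one_iff _).mpr h
  have e := commutator_pow_left hc n
  rw [← map_commutatorElement, ← map_pow, ← map_commutatorElement] at e
  show (QuotientGroup.mk' N ⁅x ^ n, g⁆)⁻¹ * (QuotientGroup.mk' N ⁅x, g⁆) ^ n = 1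
  rw [e, inv_mul_cancel]

/-- A congruence of commutators. -/
theorem commutator_congr {G : Type*} [Group G] (N : Subgroup G) [N.Normal] {x x' y y' : G} (hx : x⁻¹ * x' ∈ N)
    (hy : y⁻¹ * y' ∈ N) : (⁅x, y⁆)⁻¹ * ⁅x', y'⁆ ∈ N := by
  rw [← QuotientGroup.eq] at hx hy ⊢
  show QuotientGroup.mk' N ⁅x, y⁆ = QuotientGroup.mk' N ⁅x', y'⁆
  rw [map_commutatorElement, map_commutatorElement, show QuotientGroup.mk' N x = QuotientGroup.mk' N x' from hx,
    show QuotientGroup.mk' N y = QuotientGroup.mk' N y' from hy]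

/-- The hypotheses. -/
structure Two (p : ℕ) (E : Type*) [Group E] where
  pg : IsPGroup p E
  five : 5 ≤ p
  rk : Cfsg.SectionalPRankLE p 3 E
  index : (frattini E).index ≤ p ^ 2
  r : MulAut E
  r_pow : ∃ j, r ^ p ^ j = 1
  inner : ∃ k : E, ∀ x, (r ^ p) x = k * x * k⁻¹
  moved : ∃ a, a⁻¹ * r a ∉ frattini E
  irr : ∀ M : Subgroup E, frattini E ≤ M → (∀ (α : MulAut E), ∀ x ∈ M, α x ∈ M) → M ≠ ⊤ → M ≤ frattini E

theorem fil_invariant (k : ℕ) (α : MulAut E) {x : E} (hx : x ∈ fil E k) : α x ∈ fil E k := by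
  have h := (Subgroup.map_lowerCentralSeries (⊤ : Subgroup E) α.toMonoidHom (k - 1)).le ⟨x, hx, rfl⟩
  rwa [Subgroup.map_top_of_surjective _ α.surjective] at h

theorem fil_two : fil E 2 = commutator E := top_lowerCentralSeries_one

/-- The powers of the abelianisation. -/
def ag (p : ℕ) (E : Type*) [Group E] (k : ℕ) : Subgroup E :=
  (powMonoidHom (p ^ k) : Abelianization E →* Abelianization E).range.comap Abelianization.of

theorem of_surj {G : Type*} [Group G] : Function.Surjective (Abelianization.of : G → Abelianization G) :=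
  fun q => QuotientGroup.mk_surjective q

namespace Two

variable (D : Two p E)

include D

theorem fil_le_frattini : fil E 2 ≤ frattini E := fil_two (E := E) ▸ CfsgLib.commutator_le_frattini_pGroup D.pg

/-- A generating pair adapted to the transvection. -/
theorem exists_gens : ∃ a b : E, closure ({a, b} : Set E) = ⊤ ∧ b ∉ frattini E ∧ a⁻¹ * D.r a = b ∧
    b⁻¹ * D.r b ∈ frattini E := by
  obtain ⟨j, hj⟩ := D.r_pow
  obtain ⟨a₀, ha₀⟩ := D.moved
  have hΦ : ∀ x ∈ frattini E, D.r x ∈ frattini E := fun x hx =>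
    (characteristic_iff_map_le.mp (inferInstance : (frattini E).Characteristic) D.r) ⟨x, hx, rfl⟩
  obtain ⟨k, hk2, hk⟩ : ∃ k, k ≤ 2 ∧ (frattini E).index = p ^ k := by
    obtain ⟨k, hk⟩ := D.pg.index (frattini E)
    exact ⟨k, (Nat.pow_le_pow_iff_right hpf.out.one_lt).mp (hk ▸ D.index), hk⟩
  have hk2' : k = 2 := by
    by_contra hne
    refine ha₀ (Cfsg.EssentialSmall.inv_mul_mem_of_step hj hΦ (fun _ _ => mem_top _) ?_ a₀ (mem_top _))
    rw [relIndex_top_right, hk]
    exact (pow_dvd_pow p (by omega)).trans (pow_one p).dvd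
  subst hk2'
  have hX : Nat.card (E ⧸ frattini E) = p ^ 2 := by rw [← index_eq_card, hk]
  have hexp : ∀ x : E ⧸ frattini E, x ^ p = 1 := fun x => by
    obtain ⟨y, rfl⟩ := QuotientGroup.mk_surjective x
    rw [← QuotientGroup.mk_pow, QuotientGroup.eq_one_iff]
    exact CfsgLib.pow_mem_frattini_pGroup D.pg y
  set R := (zpowers D.r).map (CfsgLib.AfterFT.OutSolvable.frattiniHom E)
  have hR : IsPGroup p R := by
    refine IsPGroup.map ?_ _
    rintro ⟨_, i, rfl⟩
    refine ⟨j, Subtype.ext ?_⟩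
    show (D.r ^ i) ^ p ^ j = 1
    rw [← zpow_natCast, zpow_comm, zpow_natCast, hj, one_zpow]
  obtain ⟨z, hz1, hzi, hzf, hzr⟩ := Cfsg.RankTwoResistant.exists_line hR hX hexp
  have hrR : CfsgLib.AfterFT.OutSolvable.frattiniHom E D.r ∈ R := mem_map_of_mem _ (mem_zpowers _)
  set K := (zpowers z).comap (QuotientGroup.mk' (frattini E))
  have hKi : K.index = p := by rw [index_comap_of_surjective _ (QuotientGroup.mk'_surjective _), hzi]
  have hfix : ∀ x ∈ K, x⁻¹ * D.r x ∈ frattini E := by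
    intro x hx
    obtain ⟨i, hi⟩ := hx
    rw [← QuotientGroup.eq]
    show QuotientGroup.mk' (frattini E) x = CfsgLib.AfterFT.OutSolvable.frattiniHom E D.r (QuotientGroup.mk' _ x)
    rw [← hi, map_zpow, hzf _ hrR]
  set b := a₀⁻¹ * D.r a₀ with hb
  have hbK : b ∈ K := hzr _ hrR (QuotientGroup.mk' _ a₀)
  have haK : a₀ ∉ K := fun h => ha₀ (hfix a₀ h)
  refine ⟨a₀, b, ?_, ha₀, rfl, hfix b hbK⟩
  refine frattini_nongenerating (eq_top_iff.mpr ?_)
  set M := closure ({a₀, b} : Set E) ⊔ frattini E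
  have haM : a₀ ∈ M := mem_sup_left (subset_closure (Set.mem_insert _ _))
  have hbM : b ∈ M := mem_sup_left (subset_closure (Set.mem_insert_of_mem _ rfl))
  obtain ⟨i, hi⟩ := D.pg.index M
  rw [top_le_iff, ← index_eq_one, hi]
  rcases i with _ | i
  · exact pow_zero p
  exfalso
  have hlt : frattini E < M := lt_of_le_of_ne le_sup_right fun e => ha₀ (e ▸ hbM)
  have h2 := Subgroup.index_strictAnti hlt
  rw [hk, hi] at h2
  obtain rfl : i = 0 := by
    have := (Nat.pow_lt_pow_iff_right hpf.out.one_lt).mp h2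
    omega
  have hKΦ : frattini E ≤ K := fun x hx => by
    show QuotientGroup.mk' (frattini E) x ∈ zpowers z
    rw [show QuotientGroup.mk' (frattini E) x = 1 from (QuotientGroup.eq_one_iff x).mpr hx]
    exact one_mem _
  have hlt' : frattini E < M ⊓ K := lt_of_le_of_ne (le_inf le_sup_right hKΦ) fun e => ha₀ (e ▸ ⟨hbM, hbK⟩)
  have hlt'' : M ⊓ K < M := lt_of_le_of_ne inf_le_left fun e => haK (e.ge haM).2
  obtain ⟨i', hi'⟩ := D.pg.index (M ⊓ K)
  have h3 := Subgroup.index_strictAnti hlt'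
  have h4 := Subgroup.index_strictAnti hlt''
  rw [hi', hk] at h3
  rw [hi', hi] at h4
  have := (Nat.pow_lt_pow_iff_right hpf.out.one_lt).mp h3
  have := (Nat.pow_lt_pow_iff_right hpf.out.one_lt).mp h4
  omega

theorem mem_ag {k : ℕ} {x : E} : x ∈ ag p E k ↔ ∃ y : E, Abelianization.of x = Abelianization.of y ^ p ^ k := by
  constructor
  · rintro ⟨q, hq⟩
    obtain ⟨y, rfl⟩ := of_surj q
    exact ⟨y, hq.symm⟩
  · rintro ⟨y, hy⟩
    exact ⟨_, hy.symm⟩

theorem ag_invariant (k : ℕ) (α : MulAut E) {x : E} (hx : x ∈ ag p E k) : α x ∈ ag p E k := by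
  obtain ⟨y, hy⟩ := D.mem_ag.mp hx
  refine D.mem_ag.mpr ⟨α y, ?_⟩
  have h := congrArg (Abelianization.map α.toMonoidHom) hy
  rwa [map_pow, Abelianization.map_of, Abelianization.map_of] at h

theorem frattini_le_ag : frattini E ≤ ag p E 1 := by
  refine CfsgLib.RankFrattini.frattini_le_of_elementary D.pg _ (fun a b => D.mem_ag.mpr ⟨1, ?_⟩)
    fun a => D.mem_ag.mpr ⟨a, by rw [map_pow, pow_one]⟩
  rw [map_commutatorElement, map_one, one_pow, commutatorElement_eq_one_iff_mul_comm, mul_comm]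

theorem ag_pow {k : ℕ} {x : E} (hx : x ∈ ag p E k) : x ^ p ∈ ag p E (k + 1) := by
  obtain ⟨y, hy⟩ := D.mem_ag.mp hx
  exact D.mem_ag.mpr ⟨y, by rw [map_pow, hy, ← pow_mul, ← pow_succ]⟩

/-- The abelianisation is elementary. -/
theorem pow_mem_two (x : E) : x ^ p ∈ fil E 2 := by
  have hpp : p.Prime := hpf.out
  let M : Subgroup E :=
    { carrier := {y | y ^ p ∈ ag p E 2}
      one_mem' := by show (1 : E) ^ p ∈ ag p E 2; rw [one_pow]; exact one_mem _
      mul_mem' := fun {u v} hu hv => by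
        obtain ⟨u', hu'⟩ := D.mem_ag.mp hu
        obtain ⟨v', hv'⟩ := D.mem_ag.mp hv
        refine D.mem_ag.mpr ⟨u' * v', ?_⟩
        rw [map_pow, map_mul, mul_pow, ← map_pow, ← map_pow, hu', hv', map_mul, mul_pow]
      inv_mem' := fun {u} hu => by
        show u⁻¹ ^ p ∈ ag p E 2
        rw [inv_pow]; exact inv_mem hu }
  by_cases hM : M = ⊤
  · have key : ∀ k, ∀ y : E, y ^ p ∈ ag p E (k + 1) := by
      intro k
      induction k with
      | zero => exact fun y => D.mem_ag.mpr ⟨y, by rw [map_pow, pow_one]⟩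
      | succ k ih =>
        intro y
        obtain ⟨z, hz⟩ := D.mem_ag.mp (ih y)
        obtain ⟨w, hw⟩ := D.mem_ag.mp (show z ^ p ∈ ag p E 2 from hM.ge (mem_top z))
        refine D.mem_ag.mpr ⟨w, ?_⟩
        rw [hz, pow_succ' p k, pow_mul, ← map_pow, hw, ← pow_mul]
        congr 1
        ring
    obtain ⟨m, hm⟩ := D.pg.exists_card_eq
    obtain ⟨y, hy⟩ := D.mem_ag.mp (key m x)
    rw [fil_two, ← Abelianization.ker_of, MonoidHom.mem_ker, hy, pow_succ, pow_mul, ← map_pow, ← hm,
      pow_card_eq_one', map_one, one_pow]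
  exfalso
  obtain ⟨a, b, hgen, hb, hab, hbb⟩ := D.exists_gens
  refine hb (D.irr M (fun y hy => show y ^ p ∈ ag p E 2 from D.ag_pow (D.frattini_le_ag hy)) (fun α y hy => ?_) hM (show b ^ p ∈ ag p E 2 from ?_))
  · show α y ^ p ∈ ag p E 2
    rw [← map_pow]
    exact D.ag_invariant 2 α hy
  let Ab := Abelianization E
  let u : Ab →* Ab := Abelianization.map D.r.toMonoidHom
  have hu : ∀ e : E, u (Abelianization.of e) = Abelianization.of (D.r e) := fun e => Abelianization.map_of _ e
  let δ : Ab →* Ab := u / MonoidHom.id Ab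
  have hδ : ∀ q, u q = q * δ q := fun q => (mul_div_cancel q (u q)).symm
  have hδe : ∀ e : E, δ (Abelianization.of e) = Abelianization.of (e⁻¹ * D.r e) := fun e => by
    show u (Abelianization.of e) / Abelianization.of e = _
    rw [hu, map_mul, map_inv, div_eq_mul_inv, mul_comm]
  set A := Abelianization.of a
  set B := Abelianization.of b
  have hA : δ A = B := by rw [hδe, hab]
  obtain ⟨y, hy⟩ := D.mem_ag.mp (D.frattini_le_ag hbb)
  rw [pow_one] at hy
  have hB : δ B = Abelianization.of y ^ p := by rw [hδe, hy]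
  have hW : ∀ q, δ (δ q) ∈ (powMonoidHom p : Ab →* Ab).range := by
    intro q
    obtain ⟨e, rfl⟩ := of_surj q
    have hle : closure ({a, b} : Set E) ≤
        ((powMonoidHom p : Ab →* Ab).range.comap (δ.comp δ)).comap Abelianization.of := by
      rw [closure_le]
      rintro w (rfl | rfl)
      · exact ⟨_, (show Abelianization.of y ^ p = δ (δ A) by rw [hA, hB])⟩
      · exact ⟨δ (Abelianization.of y), (show δ (Abelianization.of y) ^ p = δ (δ B) by rw [hB, map_pow])⟩
    exact hle (hgen.ge (mem_top e))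
  obtain ⟨w, hw⟩ := hW (Abelianization.of y)
  let V := (powMonoidHom (p ^ 2) : Ab →* Ab).range
  let π := QuotientGroup.mk' V
  let v : Ab ⧸ V →* Ab ⧸ V := QuotientGroup.map V V u fun q ⟨z, hz⟩ => ⟨u z, by
    show u z ^ (p ^ 2) = u q
    rw [← hz, powMonoidHom_apply, map_pow]⟩
  have hv : ∀ q, v (π q) = π q * π (δ q) := fun q => by
    rw [← map_mul, ← hδ]
    rfl
  let C := δ B
  let T := δ C
  have hC : δ B = C := rfl
  have hCT : δ C = T := rfl
  have hTy : T = δ (Abelianization.of y) ^ p := by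
    show δ (δ B) = _
    rw [hB, map_pow]
  have hT : π (δ T) = 1 := (QuotientGroup.eq_one_iff _).mpr ⟨w, by
    show w ^ (p ^ 2) = δ (δ (δ B))
    rw [hB, map_pow, map_pow, ← hw, powMonoidHom_apply, ← pow_mul, pow_two]⟩
  have hit : ∀ n : ℕ, π (Abelianization.of ((D.r ^ n) a)) =
      π A * π B ^ n * π C ^ n.choose 2 * π T ^ n.choose 3 := by
    intro n
    induction n with
    | zero => simp [A]
    | succ n ih =>
      rw [pow_succ', MulAut.mul_apply, ← hu, ← show v (π (Abelianization.of ((D.r ^ n) a))) =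
        π (u (Abelianization.of ((D.r ^ n) a))) from rfl, ih, map_mul, map_mul, map_mul, map_pow, map_pow, map_pow,
        hv, hv, hv, hv, hA, hC, hCT, hT, mul_one, mul_pow, mul_pow, pow_succ',
        show (n + 1).choose 2 = n + n.choose 2 by rw [Nat.choose_succ_succ, Nat.choose_one_right],
        show (n + 1).choose 3 = n.choose 2 + n.choose 3 from Nat.choose_succ_succ n 2, pow_add, pow_add]
      ac_rfl
  obtain ⟨k, hk⟩ := D.inner
  have h5 := D.five
  have e := hit p
  have h2 : ∀ m : ℕ, p ∣ m → π C ^ m = 1 := by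
    rintro m ⟨l, rfl⟩
    rw [← map_pow]
    refine (QuotientGroup.eq_one_iff _).mpr ⟨Abelianization.of y ^ l, ?_⟩
    show (Abelianization.of y ^ l) ^ (p ^ 2) = δ B ^ (p * l)
    rw [hB, ← pow_mul, ← pow_mul]
    congr 1
    ring
  have h3 : ∀ m : ℕ, p ∣ m → π T ^ m = 1 := by
    rintro m ⟨l, rfl⟩
    rw [← map_pow]
    refine (QuotientGroup.eq_one_iff _).mpr ⟨δ (Abelianization.of y) ^ l, ?_⟩
    show (δ (Abelianization.of y) ^ l) ^ (p ^ 2) = T ^ (p * l)
    rw [hTy, ← pow_mul, ← pow_mul]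
    congr 1
    ring
  have e0 : Abelianization.of ((D.r ^ p) a) = A := by
    rw [hk, map_mul, map_mul, map_inv, mul_comm (Abelianization.of k), mul_inv_cancel_right]
  rw [e0,
    h2 _ (hpp.dvd_choose_self (by omega) (by omega)), h3 _ (hpp.dvd_choose_self (by omega) (by omega)),
    mul_one, mul_one, left_eq_mul, ← map_pow] at e
  obtain ⟨z, hz⟩ := (QuotientGroup.eq_one_iff _).mp e
  obtain ⟨z, rfl⟩ := of_surj z
  exact D.mem_ag.mpr ⟨z, by rw [map_pow]; exact hz.symm⟩

theorem frattini_eq : frattini E = fil E 2 := le_antisymm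
  (CfsgLib.RankFrattini.frattini_le_of_elementary D.pg _
    (fun a b => fil_two (E := E) ▸ commutator_mem_commutator (mem_top a) (mem_top b)) D.pow_mem_two)
  D.fil_le_frattini

end Two

/-- The projection modulo a term of the series. -/
abbrev pr (E : Type*) [Group E] (k : ℕ) : E →* E ⧸ fil E k := QuotientGroup.mk' (fil E k)

theorem pr_eq_one {k : ℕ} {x : E} : pr E k x = 1 ↔ x ∈ fil E k := QuotientGroup.eq_one_iff x

theorem pr_comm {i j : ℕ} {x y : E} (hx : x ∈ fil E i) (hy : y ∈ fil E j) :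
    Commute (pr E (i + j) x) (pr E (i + j) y) :=
  commutatorElement_eq_one_iff_mul_comm.mp (by
    rw [← map_commutatorElement]
    exact pr_eq_one.mpr (fil_commutator_mem hx hy))

theorem mem_one (x : E) : x ∈ fil E 1 := by
  show x ∈ (⊤ : Subgroup E).lowerCentralSeries 0
  exact mem_top x

theorem pr_comm_right {i j : ℕ} {x y : E} (hx : x ∈ fil E i) (hy : y ∈ fil E j) {g : E} :
    Commute (pr E (i + j + 1) ⁅x, y⁆) (pr E (i + j + 1) g) :=
  pr_comm (fil_commutator_mem hx hy) (mem_one g)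

/-- Commutators are additive on the left modulo the next layer. -/
theorem pr_comm_mul_left {i j : ℕ} {x y g : E} (hy : y ∈ fil E i) (hg : g ∈ fil E j) :
    pr E (i + j + 1) ⁅x * y, g⁆ = pr E (i + j + 1) ⁅x, g⁆ * pr E (i + j + 1) ⁅y, g⁆ := by
  have e : ⁅x * y, g⁆ = x * ⁅y, g⁆ * x⁻¹ * ⁅x, g⁆ := by simp only [commutatorElement_def]; group
  have hc := (pr_comm_right hy hg (g := x)).eq
  rw [e, map_mul, map_mul, map_mul, map_inv, ← hc, mul_inv_cancel_right]
  exact pr_comm_right hy hg (g := ⁅x, g⁆)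

/-- Commutators are additive on the right modulo the next layer. -/
theorem pr_comm_mul_right {i j : ℕ} {g x y : E} (hg : g ∈ fil E i) (hy : y ∈ fil E j) :
    pr E (i + j + 1) ⁅g, x * y⁆ = pr E (i + j + 1) ⁅g, x⁆ * pr E (i + j + 1) ⁅g, y⁆ := by
  have e : ⁅g, x * y⁆ = ⁅g, x⁆ * (x * ⁅g, y⁆ * x⁻¹) := by simp only [commutatorElement_def]; group
  rw [e, map_mul, map_mul, map_mul, map_inv, ← (pr_comm_right hg hy (g := x)).eq, mul_inv_cancel_right]

theorem fil_eq_bot (hE : IsPGroup p E) {k : ℕ} (h : fil E (k + 1) ≤ fil E (k + 2)) : fil E (k + 1) = ⊥ := by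
  haveI : Group.IsNilpotent ↥(⊤ : Subgroup E) := (hE.to_subgroup ⊤).isNilpotent
  obtain ⟨n, hn⟩ := (isNilpotent_iff_lowerCentralSeries (⊤ : Subgroup E)).mp inferInstance
  have key : ∀ m, (⊤ : Subgroup E).lowerCentralSeries k ≤ (⊤ : Subgroup E).lowerCentralSeries (k + m) := by
    intro m
    induction m with
    | zero => exact le_rfl
    | succ m ih => exact h.trans (commutator_mono ih le_rfl)
  exact le_bot_iff.mp ((key n).trans ((Subgroup.lowerCentralSeries_antitone _ (Nat.le_add_left n k)).trans hn.le))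

theorem c_mem (a b : E) : ⁅a, b⁆ ∈ fil E 2 := fil_commutator_mem (mem_one a) (mem_one b)

theorem cx_mem (a b x : E) : ⁅⁅a, b⁆, x⁆ ∈ fil E 3 := fil_commutator_mem (c_mem a b) (mem_one x)

/-- A subgroup of a layer whose generators have small powers. -/
theorem pow_mem_of_sup {i : ℕ} {T : Set E} {x : E} (hT : ∀ t ∈ T, t ∈ fil E (i + 1) ∧ t ^ p ∈ fil E (i + 2))
    (hpow : ∀ y ∈ fil E (i + 2), y ^ p ∈ fil E (i + 2)) (hx : x ∈ fil E (i + 2) ⊔ closure T) :
    x ^ p ∈ fil E (i + 2) := by
  let M : Subgroup E :=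
    { carrier := {y | y ∈ fil E (i + 1) ∧ y ^ p ∈ fil E (i + 2)}
      one_mem' := ⟨one_mem _, by rw [one_pow]; exact one_mem _⟩
      mul_mem' := fun {u v} hu hv => by
        refine ⟨mul_mem hu.1 hv.1, pr_eq_one.mp ?_⟩
        have hc : Commute (pr E (i + 2) u) (pr E (i + 2) v) := by
          refine commutatorElement_eq_one_iff_mul_comm.mp ?_
          rw [← map_commutatorElement]
          exact pr_eq_one.mpr (fil_antitone (by omega) (fil_commutator_mem hu.1 hv.1))
        rw [map_pow, map_mul, hc.mul_pow, ← map_pow, ← map_pow, pr_eq_one.mpr hu.2, pr_eq_one.mpr hv.2, one_mul]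
      inv_mem' := fun {u} hu => ⟨inv_mem hu.1, by rw [inv_pow]; exact inv_mem hu.2⟩ }
  exact ((sup_le (fun y hy => ⟨fil_antitone (by omega) hy, hpow y hy⟩) ((closure_le M).mpr hT)) hx).2

theorem normal_between {k : ℕ} {N : Subgroup E} (h1 : fil E (k + 1) ≤ N) (h2 : N ≤ fil E k) : N.Normal :=
  ⟨fun x hx g => by
    have h3 : ⁅g, x⁆ ∈ N := h1 (Nat.add_comm 1 k ▸ fil_commutator_mem (mem_one g) (h2 hx))
    have e : g * x * g⁻¹ = ⁅g, x⁆ * x := by simp only [commutatorElement_def]; group
    rw [e]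
    exact mul_mem h3 hx⟩

namespace Two

variable (D : Two p E)

include D

/-- An adapted generating pair. -/
structure Gens (a b : E) : Prop where
  gen : closure ({a, b} : Set E) = ⊤
  b_not : b ∉ frattini E
  ra : a⁻¹ * D.r a = b
  rb : b⁻¹ * D.r b ∈ frattini E

variable {D} {a b : E} (G : D.Gens a b)

local notation "c" => ⁅a, b⁆
local notation "d" => ⁅⁅a, b⁆, a⁆
local notation "f" => ⁅⁅a, b⁆, b⁆

include G

theorem Gens.gen_two : fil E 2 ≤ fil E 3 ⊔ zpowers c := by
  haveI : (fil E 3 ⊔ zpowers c).Normal :=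
    normal_between (k := 2) le_sup_left (sup_le (fil_antitone (by norm_num)) (zpowers_le.mpr (c_mem a b)))
  show ⁅(⊤ : Subgroup E), ⊤⁆ ≤ _
  refine commutator_le_of_gens G.gen (L' := ⊥) (T := {a, b}) (by rw [bot_sup_eq, G.gen]) (by simp) ?_
  rintro t (rfl | rfl) x (rfl | rfl)
  · simp
  · exact mem_sup_right (mem_zpowers _)
  · refine inv_mem_iff.mp ?_
    rw [commutatorElement_inv]; exact mem_sup_right (mem_zpowers _)
  · simp

theorem Gens.gen_three : fil E 3 ≤ fil E 4 ⊔ closure {d, f} := by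
  haveI : (fil E 4 ⊔ closure {d, f}).Normal := by
    refine normal_between (k := 3) le_sup_left (sup_le (fil_antitone (by norm_num)) ((closure_le _).mpr ?_))
    rintro _ (rfl | rfl) <;> exact cx_mem a b _
  show ⁅fil E 2, ⊤⁆ ≤ _
  refine commutator_le_of_gens G.gen (L' := fil E 3) (T := {c}) (by rw [← zpowers_eq_closure]; exact G.gen_two)
    (le_trans (le_refl (fil E 4)) le_sup_left) ?_
  rintro t rfl x (rfl | rfl)
  · exact mem_sup_right (subset_closure (Or.inl rfl))
  · exact mem_sup_right (subset_closure (Or.inr rfl))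

theorem Gens.gen_four : fil E 4 ≤ fil E 5 ⊔ closure {⁅d, a⁆, ⁅d, b⁆, ⁅f, a⁆, ⁅f, b⁆} := by
  haveI : (fil E 5 ⊔ closure {⁅d, a⁆, ⁅d, b⁆, ⁅f, a⁆, ⁅f, b⁆}).Normal := by
    refine normal_between (k := 4) le_sup_left (sup_le (fil_antitone (by norm_num)) ((closure_le _).mpr ?_))
    rintro _ (rfl | rfl | rfl | rfl) <;> exact fil_commutator_mem (cx_mem a b _) (mem_one _)
  show ⁅fil E 3, ⊤⁆ ≤ _
  refine commutator_le_of_gens G.gen (L' := fil E 4) G.gen_three (le_trans (le_refl (fil E 5)) le_sup_left) ?_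
  rintro t (rfl | rfl) x (rfl | rfl) <;> exact mem_sup_right (subset_closure (by simp))

/-- The first generator is not on the line of the second. -/
theorem Gens.not_mem_line : a ∉ zpowers b ⊔ frattini E := by
  intro h
  let M : Subgroup E :=
    { carrier := {x | x⁻¹ * D.r x ∈ frattini E}
      one_mem' := by show (1 : E)⁻¹ * D.r 1 ∈ frattini E; simp
      mul_mem' := fun {u v} hu hv => by
        show (u * v)⁻¹ * D.r (u * v) ∈ frattini E
        have := mul_mem ((inferInstance : (frattini E).Normal).conj_mem _ hu v⁻¹) hv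
        simpa [map_mul, mul_assoc] using this
      inv_mem' := fun {u} hu => by
        show u⁻¹⁻¹ * D.r u⁻¹ ∈ frattini E
        have := (inferInstance : (frattini E).Normal).conj_mem _ (inv_mem hu) u
        simpa [map_inv, mul_assoc] using this }
  have hle : zpowers b ⊔ frattini E ≤ M := sup_le (zpowers_le.mpr G.rb) fun x hx =>
    mul_mem (inv_mem hx) (characteristic_iff_map_le.mp (inferInstance : (frattini E).Characteristic) D.r ⟨x, hx, rfl⟩)
  exact G.b_not (G.ra ▸ (show a⁻¹ * D.r a ∈ frattini E from hle h))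

theorem Gens.c_pow : (c) ^ p ∈ fil E 3 := by
  have h := commutator_pow_left' (fil E 3) (x := a) (g := b) (fil_commutator_mem (mem_one a) (c_mem a b)) p
  have h2 : ⁅a ^ p, b⁆ ∈ fil E 3 := fil_commutator_mem (D.pow_mem_two a) (mem_one b)
  have := mul_mem h2 h
  rwa [mul_inv_cancel_left] at this

theorem Gens.pow_two_mem {x : E} (hx : x ∈ fil E 2) : x ^ p ∈ fil E 3 := by
  refine pow_mem_of_sup (i := 1) (T := {c}) ?_ (fun y hy => pow_mem hy p)
    (by rw [← zpowers_eq_closure]; exact G.gen_two hx)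
  rintro _ rfl
  exact ⟨c_mem a b, G.c_pow⟩

/-- The quotient by the second layer has exponent `p`. -/
theorem Gens.pow_mem_three (x : E) : x ^ p ∈ fil E 3 := by
  have h2 : p ≠ 2 := by have := D.five; omega
  let M : Subgroup E :=
    { carrier := {y | y ^ p ∈ fil E 3}
      one_mem' := by show (1 : E) ^ p ∈ fil E 3; rw [one_pow]; exact one_mem _
      mul_mem' := fun {u v} hu hv => by
        show (u * v) ^ p ∈ fil E 3
        refine pr_eq_one.mp ?_
        have hw : pr E 3 ⁅v, u⁆ ^ p = 1 := by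
          rw [← map_pow]
          exact pr_eq_one.mpr (G.pow_two_mem (c_mem v u))
        rw [map_pow, map_mul, CfsgLib.SectThree.mul_pow_class_two h2 hw
          (pr_comm_right (i := 1) (j := 1) (mem_one v) (mem_one u)).symm
          (pr_comm_right (i := 1) (j := 1) (mem_one v) (mem_one u)).symm
          (by rw [map_commutatorElement, commutatorElement_def]; group), ← map_pow, ← map_pow, pr_eq_one.mpr hu, pr_eq_one.mpr hv,
          one_mul]
      inv_mem' := fun {u} hu => by show u⁻¹ ^ p ∈ fil E 3; rw [inv_pow]; exact inv_mem hu }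
  suffices M = ⊤ from this.ge (mem_top x)
  by_contra hM
  have hle := D.irr M (fun y hy => G.pow_two_mem (D.frattini_eq.le hy))
    (fun α y hy => by show α y ^ p ∈ fil E 3; rw [← map_pow]; exact fil_invariant 3 α hy) hM
  have hbn : pr E 3 (b ^ p) ≠ 1 := fun h => G.b_not (hle (pr_eq_one.mp h))
  have hin : ∀ y : E, pr E 3 (y ^ p) ∈ zpowers (pr E 3 c) := fun y => by
    have h : pr E 3 (y ^ p) ∈ (fil E 3 ⊔ zpowers c).map (pr E 3) := mem_map_of_mem _ (G.gen_two (D.pow_mem_two y))
    rwa [Subgroup.map_sup, MonoidHom.map_zpowers, show (fil E 3).map (pr E 3) = ⊥ from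
      (Subgroup.map_eq_bot_iff _).mpr (QuotientGroup.ker_mk' _).ge, bot_sup_eq] at h
  have hcp : pr E 3 c ^ p = 1 := by rw [← map_pow]; exact pr_eq_one.mpr G.c_pow
  have heq : zpowers (pr E 3 (b ^ p)) = zpowers (pr E 3 c) := by
    refine eq_of_le_of_card_ge (zpowers_le.mpr (hin b)) ?_
    rw [Nat.card_zpowers, Nat.card_zpowers,
      orderOf_eq_prime (by rw [← map_pow]; exact pr_eq_one.mpr (G.pow_two_mem (D.pow_mem_two b))) hbn]
    exact orderOf_le_of_pow_eq_one hpf.out.pos hcp
  obtain ⟨k, hk⟩ := heq.ge (hin a)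
  have hab : a * (b ^ k)⁻¹ ∈ M := by
    show (a * (b ^ k)⁻¹) ^ p ∈ fil E 3
    refine pr_eq_one.mp ?_
    have hw : pr E 3 ⁅(b ^ k)⁻¹, a⁆ ^ p = 1 := by
      rw [← map_pow]
      exact pr_eq_one.mpr (G.pow_two_mem (c_mem _ _))
    rw [map_pow, map_mul, CfsgLib.SectThree.mul_pow_class_two h2 hw
      (pr_comm_right (i := 1) (j := 1) (mem_one _) (mem_one a)).symm
      (pr_comm_right (i := 1) (j := 1) (mem_one _) (mem_one a)).symm
      (by rw [map_commutatorElement, commutatorElement_def]; group), ← map_pow, map_inv, map_zpow, inv_pow, ← hk,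
      mul_inv_eq_one]
    simp only [map_pow]
    rw [← zpow_natCast, ← zpow_mul, ← zpow_natCast, ← zpow_mul, mul_comm]
  refine G.not_mem_line ?_
  have h := mul_mem (mem_sup_right (S := zpowers b) (hle hab)) (mem_sup_left (T := frattini E) (zpow_mem (mem_zpowers b) k))
  rwa [inv_mul_cancel_right] at h

end Two

end CfsgLib.RankThreePearl
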