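import Cfsg.Agent.Lib.Fusion.RankThreePearl.Class

/-!
The third and fourth layers.
-/

set_option autoImplicit false
set_option linter.unusedSectionVars false
set_option linter.style.haveILetI false

namespace CfsgLib.RankThreePearl

open Subgroup
open CfsgLib.PolySeq (fil fil_antitone fil_commutator_mem)
open scoped commutatorElement

variable {p : ℕ} [hpf : Fact p.Prime] {E : Type*} [Group E] [Finite E]

/-- Congruent entries give congruent commutators. -/
theorem pr_congr {i j : ℕ} {x x' y y' : E} (hx : x ∈ fil E i) (hy : y ∈ fil E j) (hxx : x⁻¹ * x' ∈ fil E (i + 1))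
    (hyy : y⁻¹ * y' ∈ fil E (j + 1)) : pr E (i + j + 1) ⁅x, y⁆ = pr E (i + j + 1) ⁅x', y'⁆ := by
  obtain ⟨u, hu, rfl⟩ : ∃ u ∈ fil E (i + 1), x' = x * u := ⟨_, hxx, (mul_inv_cancel_left x x').symm⟩
  obtain ⟨v, hv, rfl⟩ : ∃ v ∈ fil E (j + 1), y' = y * v := ⟨_, hyy, (mul_inv_cancel_left y y').symm⟩
  have hyv : y * v ∈ fil E j := mul_mem hy (fil_antitone (Nat.le_succ j) hv)
  rw [pr_comm_mul_left (fil_antitone (Nat.le_succ i) hu) hyv, pr_comm_mul_right hx (fil_antitone (Nat.le_succ j) hv),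
    (pr_eq_one (k := i + j + 1)).mpr (fil_antitone (by omega) (fil_commutator_mem hu hyv)),
    (pr_eq_one (k := i + j + 1)).mpr (fil_antitone (by omega) (fil_commutator_mem hx hv)), mul_one, mul_one]

theorem map_pr_self (k : ℕ) : (fil E k).map (pr E k) = ⊥ :=
  (Subgroup.map_eq_bot_iff _).mpr (QuotientGroup.ker_mk' _).ge

/-- Elements of a layer commuting with generators of a layer. -/
theorem commutator_mem_of_gens {i k : ℕ} {T : Set E} {x : E} (hle : fil E i ≤ fil E (i + 1) ⊔ closure T)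
    (h1 : ∀ y ∈ fil E (i + 1), ⁅y, x⁆ ∈ fil E k) (hT : ∀ t ∈ T, ⁅t, x⁆ ∈ fil E k) {y : E} (hy : y ∈ fil E i) :
    ⁅y, x⁆ ∈ fil E k := by
  have key : ∀ y, ⁅y, x⁆ ∈ fil E k ↔ y ∈ (centralizer {pr E k x}).comap (pr E k) := fun y => by
    rw [mem_comap, mem_centralizer_singleton_iff, ← commutatorElement_eq_one_iff_mul_comm, ← map_commutatorElement,
      pr_eq_one]
  exact (key y).mpr (sup_le (fun z hz => (key z).mp (h1 z hz)) ((closure_le _).mpr fun t ht => (key t).mp (hT t ht))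
    (hle hy))

theorem inv_comm_mem {k : ℕ} {x y : E} (h : ⁅x, y⁆ ∈ fil E k) : ⁅y, x⁆ ∈ fil E k := by
  rw [← commutatorElement_inv]; exact inv_mem h

/-- The subgroup of elements commuting with a layer modulo a later one. -/
def annih (E : Type*) [Group E] (i k : ℕ) : Subgroup E :=
  (centralizer (((fil E i).map (pr E k) : Subgroup _) : Set (E ⧸ fil E k))).comap (pr E k)

theorem mem_annih {i k : ℕ} {x : E} : x ∈ annih E i k ↔ ∀ w ∈ fil E i, ⁅w, x⁆ ∈ fil E k := by
  rw [annih, mem_comap, mem_centralizer_iff]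
  constructor
  · intro h w hw
    rw [← pr_eq_one, map_commutatorElement, commutatorElement_eq_one_iff_mul_comm]
    exact h _ ⟨w, hw, rfl⟩
  · rintro h _ ⟨w, hw, rfl⟩
    rw [← commutatorElement_eq_one_iff_mul_comm, ← map_commutatorElement]
    exact pr_eq_one.mpr (h w hw)

namespace Two

variable {D : Two p E} {a b : E} (G : D.Gens a b)

local notation "c" => ⁅a, b⁆
local notation "d" => ⁅⁅a, b⁆, a⁆
local notation "f" => ⁅⁅a, b⁆, b⁆

include G

theorem Gens.annih_le {i k : ℕ} (hi : 1 ≤ i) (hne : ¬ fil E (i + 1) ≤ fil E k) (hk : k ≤ i + 2) :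
    annih E i k ≤ frattini E := by
  refine D.irr _ (fun y hy => mem_annih.mpr fun w hw =>
    fil_antitone hk (fil_commutator_mem hw (D.frattini_eq.le hy))) (fun α y hy => mem_annih.mpr fun w hw => ?_)
    fun h => hne ?_
  · have h2 := fil_invariant k α (mem_annih.mp hy _ (fil_invariant i α.symm hw))
    rwa [map_commutatorElement, MulEquiv.apply_symm_apply] at h2
  · obtain ⟨i, rfl⟩ : ∃ j, i = j + 1 := ⟨i - 1, by omega⟩
    show ⁅fil E (i + 1), ⊤⁆ ≤ _
    exact commutator_le.mpr fun w hw x _ => mem_annih.mp (h.ge (mem_top x)) w hw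

theorem Gens.mem_annih_two {x : E} (hx : ⁅c, x⁆ ∈ fil E 4) : x ∈ annih E 2 4 := by
  refine mem_annih.mpr fun w hw => ?_
  refine commutator_mem_of_gens (i := 2) (T := {c}) (by rw [← zpowers_eq_closure]; exact G.gen_two)
    (fun y hy => fil_commutator_mem hy (mem_one x)) ?_ hw
  rintro _ rfl
  exact hx

variable (h3 : fil E 3 ≠ ⊥)

include h3

theorem Gens.not_three_le : ¬ fil E 3 ≤ fil E 4 := fun h => h3 (fil_eq_bot (k := 2) D.pg h)

theorem Gens.f_not : f ∉ fil E 4 := fun h =>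
  G.b_not (G.annih_le (i := 2) (k := 4) one_le_two (G.not_three_le h3) le_rfl (G.mem_annih_two h))

theorem Gens.d_not : d ∉ fil E 4 ⊔ zpowers f := by
  intro h
  have h' : pr E 4 d ∈ (fil E 4 ⊔ zpowers f).map (pr E 4) := mem_map_of_mem _ h
  rw [Subgroup.map_sup, MonoidHom.map_zpowers, map_pr_self, bot_sup_eq] at h'
  obtain ⟨k, hk⟩ := h'
  have hcen : ∀ x g : E, Commute (pr E 4 ⁅c, x⁆) (pr E 4 g) := fun x g =>
    pr_comm (i := 3) (j := 1) (cx_mem a b x) (mem_one g)
  have ea : pr E 4 c * pr E 4 a * (pr E 4 c)⁻¹ = pr E 4 d * pr E 4 a := by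
    rw [← map_inv, ← map_mul, ← map_mul, ← map_mul]; congr 1; simp only [commutatorElement_def]; group
  have eb : pr E 4 c * pr E 4 b * (pr E 4 c)⁻¹ = pr E 4 f * pr E 4 b := by
    rw [← map_inv, ← map_mul, ← map_mul, ← map_mul]; congr 1; simp only [commutatorElement_def]; group
  refine G.not_mem_line ?_
  have hm : a * (b ^ k)⁻¹ ∈ annih E 2 4 := by
    refine G.mem_annih_two (pr_eq_one.mp ?_)
    rw [map_commutatorElement, commutatorElement_eq_one_iff_mul_comm, map_mul, map_inv, map_zpow, ← mul_inv_eq_iff_eq_mul]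
    calc pr E 4 c * (pr E 4 a * (pr E 4 b ^ k)⁻¹) * (pr E 4 c)⁻¹
        = (pr E 4 c * pr E 4 a * (pr E 4 c)⁻¹) * ((pr E 4 c * pr E 4 b * (pr E 4 c)⁻¹) ^ k)⁻¹ := by
          rw [conj_zpow]; group
      _ = pr E 4 d * pr E 4 a * ((pr E 4 f ^ k)⁻¹ * (pr E 4 b ^ k)⁻¹) := by
          rw [ea, eb, (show Commute (pr E 4 f) (pr E 4 b) from hcen b b).mul_zpow, mul_inv_rev,
            (((show Commute (pr E 4 f) (pr E 4 b) from hcen b b).symm.zpow_left k).zpow_right k).inv_inv.eq]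
      _ = pr E 4 a * (pr E 4 b ^ k)⁻¹ := by
          rw [(show Commute (pr E 4 d) (pr E 4 a) from hcen a a).eq, show pr E 4 f ^ k = pr E 4 d from hk,
            mul_assoc, mul_inv_cancel_left]
  have h := mul_mem (mem_sup_right (S := zpowers b)
      (G.annih_le (i := 2) (k := 4) one_le_two (G.not_three_le h3) le_rfl hm))
    (mem_sup_left (T := frattini E) (zpow_mem (mem_zpowers b) k))
  rwa [inv_mul_cancel_right] at h

omit h3 in
theorem Gens.pow_three_mem {x : E} (hx : x ∈ fil E 3) : x ^ p ∈ fil E 4 := by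
  refine pow_mem_of_sup (i := 2) (T := {d, f}) ?_ (fun y hy => pow_mem hy p) (G.gen_three hx)
  have key : ∀ g : E, ⁅c, g⁆ ^ p ∈ fil E 4 := fun g => by
    have h := commutator_pow_left' (fil E 4) (x := c) (g := g)
      (fil_antitone (by norm_num) (fil_commutator_mem (c_mem a b) (cx_mem a b g))) p
    have h2 : ⁅(c) ^ p, g⁆ ∈ fil E 4 := fil_commutator_mem G.c_pow (mem_one g)
    have := mul_mem h2 h
    rwa [mul_inv_cancel_left] at this
  rintro _ (rfl | rfl)
  · exact ⟨cx_mem a b a, key a⟩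
  · exact ⟨cx_mem a b b, key b⟩

omit h3 in
theorem Gens.c_pow_four : (c) ^ p ∈ fil E 4 := by
  have h2 : p ≠ 2 := by have := D.five; omega
  set A := pr E 4 a
  set B := pr E 4 b
  set C := pr E 4 c with hC
  set Z := pr E 4 ⁅a, c⁆ with hZ
  have hz : ∀ q : E, Commute Z (pr E 4 q) := fun q =>
    pr_comm (i := 3) (j := 1) (fil_commutator_mem (i := 1) (j := 2) (mem_one a) (c_mem a b)) (mem_one q)
  have hAC : A * C = Z * C * A := by
    rw [show Z = ⁅A, C⁆ from map_commutatorElement (pr E 4) a c]; simp [commutatorElement_def, mul_assoc]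
  have hAZ : Commute A Z := (hz a).symm
  have hCZ : Commute C Z := (hz _).symm
  have hn : ∀ n : ℕ, ⁅A ^ n, B⁆ = C ^ n * Z ^ n.choose 2 := by
    intro n
    induction n with
    | zero => simp [commutatorElement_def]
    | succ n ih =>
      have e : ⁅A ^ (n + 1), B⁆ = A * ⁅A ^ n, B⁆ * A⁻¹ * ⁅A, B⁆ := by
        simp only [commutatorElement_def]; group
      have e1 : A * C ^ n * A⁻¹ = Z ^ n * C ^ n := by
        rw [← conj_pow, show A * C * A⁻¹ = Z * C by rw [hAC, mul_inv_cancel_right], hCZ.symm.mul_pow]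
      rw [e, ih, show ⁅A, B⁆ = C from (map_commutatorElement (pr E 4) a b).symm,
        show (n + 1).choose 2 = n + n.choose 2 by rw [Nat.choose_succ_succ, Nat.choose_one_right], pow_succ, pow_add,
        show A * (C ^ n * Z ^ n.choose 2) * A⁻¹ = (A * C ^ n * A⁻¹) * Z ^ n.choose 2 by
          rw [← mul_assoc, mul_assoc _ (Z ^ n.choose 2), ← ((hAZ.pow_right _).inv_left).eq, ← mul_assoc],
        e1, (hCZ.pow_pow n n).symm.eq, mul_assoc (C ^ n), ← pow_add, mul_assoc (C ^ n),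
        ← (hCZ.pow_right (n + n.choose 2)).eq, ← mul_assoc, pow_add]
  have h1 : ⁅A ^ p, B⁆ = 1 := by
    rw [← map_pow, ← map_commutatorElement]
    exact pr_eq_one.mpr (fil_commutator_mem (G.pow_mem_three a) (mem_one b))
  have hZp : Z ^ p = 1 := by
    rw [← map_pow]
    exact pr_eq_one.mpr (G.pow_three_mem (fil_commutator_mem (i := 1) (j := 2) (mem_one a) (c_mem a b)))
  obtain ⟨m, hm⟩ : p ∣ p.choose 2 := hpf.out.dvd_choose_self two_ne_zero (lt_of_le_of_ne hpf.out.two_le (Ne.symm h2))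
  rw [hn, hm, pow_mul, hZp, one_pow, mul_one, hC, ← map_pow] at h1
  exact pr_eq_one.mp h1

omit h3 in
theorem Gens.pow_four_mem {x : E} (hx : x ∈ fil E 4) : x ^ p ∈ fil E 5 := by
  refine pow_mem_of_sup (i := 3) (T := {⁅d, a⁆, ⁅d, b⁆, ⁅f, a⁆, ⁅f, b⁆}) ?_ (fun y hy => pow_mem hy p) (G.gen_four hx)
  have key : ∀ y ∈ fil E 3, ∀ g : E, ⁅y, g⁆ ^ p ∈ fil E 5 := fun y hy g => by
    have h := commutator_pow_left' (fil E 5) (x := y) (g := g)
      (fil_antitone (by norm_num) (fil_commutator_mem hy (fil_commutator_mem hy (mem_one g)))) p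
    have h2 : ⁅y ^ p, g⁆ ∈ fil E 5 := fil_commutator_mem (G.pow_three_mem hy) (mem_one g)
    have := mul_mem h2 h
    rwa [mul_inv_cancel_left] at this
  rintro _ (rfl | rfl | rfl | rfl) <;>
    exact ⟨fil_commutator_mem (cx_mem a b _) (mem_one _), key _ (cx_mem a b _) _⟩

omit h3 in
theorem Gens.cx_pow (g : E) : ⁅c, g⁆ ^ p ∈ fil E 5 := by
  have h := commutator_pow_left' (fil E 5) (x := c) (g := g) (fil_commutator_mem (c_mem a b) (cx_mem a b g)) p
  have h2 : ⁅(c) ^ p, g⁆ ∈ fil E 5 := fil_commutator_mem G.c_pow_four (mem_one g)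
  have := mul_mem h2 h
  rwa [mul_inv_cancel_left] at this

/-- The fourth layer is small. -/
theorem Gens.relIndex_four : (fil E 5).relIndex (fil E 4) ∣ p := by
  have hpp := hpf.out
  have hstep : ∀ {H K : Subgroup E}, H < K → p ∣ H.relIndex K := fun {H K} h => by
    obtain ⟨i, hi⟩ := (D.pg.to_subgroup K).index (H.subgroupOf K)
    rcases i with _ | i
    · exact absurd (relIndex_eq_one.mp (by rw [relIndex, hi, pow_zero])) h.not_ge
    · exact ⟨p ^ i, by rw [relIndex, hi, pow_succ']⟩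
  set H := fil E 4 ⊔ zpowers f
  have hH3 : H ≤ fil E 3 := sup_le (fil_antitone (by norm_num)) (zpowers_le.mpr (cx_mem a b b))
  have k1 : p ∣ (fil E 4).relIndex H := hstep (lt_of_le_of_ne le_sup_left fun e =>
    G.f_not h3 (e.ge (mem_sup_right (mem_zpowers _))))
  have k2 : p ∣ H.relIndex (fil E 3) := hstep (lt_of_le_of_ne hH3 fun e => G.d_not h3 (e.ge (cx_mem a b a)))
  have hp3 : ∀ x ∈ fil E 3, x ^ p ∈ fil E 5 := by
    intro x hx
    have hsub : fil E 3 ≤ fil E 4 ⊔ closure {d, f} := G.gen_three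
    let M : Subgroup E :=
      { carrier := {y | y ∈ fil E 3 ∧ y ^ p ∈ fil E 5}
        one_mem' := ⟨one_mem _, by rw [one_pow]; exact one_mem _⟩
        mul_mem' := fun {u v} hu hv => by
          refine ⟨mul_mem hu.1 hv.1, (pr_eq_one (k := 5)).mp ?_⟩
          have hc : Commute (pr E 5 u) (pr E 5 v) := by
            refine commutatorElement_eq_one_iff_mul_comm.mp ?_
            rw [← map_commutatorElement]
            exact pr_eq_one.mpr (fil_antitone (by omega) (fil_commutator_mem hu.1 hv.1))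
          rw [map_pow, map_mul, hc.mul_pow, ← map_pow, ← map_pow, pr_eq_one.mpr hu.2, pr_eq_one.mpr hv.2, one_mul]
        inv_mem' := fun {u} hu => ⟨inv_mem hu.1, by rw [inv_pow]; exact inv_mem hu.2⟩ }
    refine ((sup_le (fun y hy => ⟨fil_antitone (by norm_num) hy, G.pow_four_mem hy⟩) ((closure_le M).mpr ?_))
      (hsub hx)).2
    rintro _ (rfl | rfl)
    · exact ⟨cx_mem a b a, G.cx_pow a⟩
    · exact ⟨cx_mem a b b, G.cx_pow b⟩
  haveI hn : ((fil E 5).subgroupOf (fil E 3)).Normal := normal_subgroupOf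
  have h := D.rk (fil E 3) ((fil E 5).subgroupOf (fil E 3)) ⊤ ⟨⟨fun u v => Subtype.ext ?_⟩⟩ fun u _ => ?_
  · rw [Subgroup.card_top, ← Subgroup.index_eq_card] at h
    have e1 := relIndex_mul_relIndex (fil E 5) (fil E 4) (fil E 3) (fil_antitone (by norm_num)) (fil_antitone (by norm_num))
    have e2 := relIndex_mul_relIndex (fil E 4) H (fil E 3) le_sup_left hH3
    obtain ⟨i, hi⟩ := (D.pg.to_subgroup (fil E 4)).index ((fil E 5).subgroupOf (fil E 4))
    rw [relIndex, hi]
    have hp2 : p ^ 2 ≤ (fil E 4).relIndex (fil E 3) := by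
      refine Nat.le_of_dvd (Nat.pos_of_ne_zero index_ne_zero_of_finite) ?_
      rw [← e2, pow_two]; exact mul_dvd_mul k1 k2
    have h4 : p ^ i * p ^ 2 ≤ p ^ 3 := by
      refine le_trans (Nat.mul_le_mul_left _ hp2) ?_
      rw [← hi]
      exact e1.trans_le h
    rw [← pow_add] at h4
    have := (Nat.pow_le_pow_iff_right hpp.one_lt).mp h4
    exact (pow_dvd_pow p (show i ≤ 1 by omega)).trans (pow_one p).dvd
  · obtain ⟨u', hu⟩ := QuotientGroup.mk_surjective (u : fil E 3 ⧸ (fil E 5).subgroupOf (fil E 3))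
    obtain ⟨v', hv⟩ := QuotientGroup.mk_surjective (v : fil E 3 ⧸ (fil E 5).subgroupOf (fil E 3))
    rw [Subgroup.coe_mul, Subgroup.coe_mul, ← hu, ← hv, ← commutatorElement_eq_one_iff_mul_comm]
    refine (map_commutatorElement (QuotientGroup.mk' ((fil E 5).subgroupOf (fil E 3))) u' v').symm.trans ?_
    exact (QuotientGroup.eq_one_iff _).mpr (mem_subgroupOf.mpr
      (fil_antitone (by norm_num) (fil_commutator_mem u'.2 v'.2)))
  · obtain ⟨u', rfl⟩ := QuotientGroup.mk_surjective u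
    rw [← QuotientGroup.mk_pow, QuotientGroup.eq_one_iff]
    exact mem_subgroupOf.mpr (hp3 _ u'.2)

/-- The fourth layer is trivial. -/
theorem Gens.four_eq_bot : fil E 4 = ⊥ := by
  refine fil_eq_bot (k := 3) D.pg ?_
  by_contra hne
  have hra : D.r a = a * b := by rw [← G.ra, mul_inv_cancel_left]
  have hrb : b⁻¹ * D.r b ∈ fil E 2 := D.frattini_eq.le G.rb
  obtain ⟨j, hj⟩ := D.r_pow
  have hfix : ∀ x ∈ fil E 4, pr E 5 (D.r x) = pr E 5 x := fun x hx => by
    have h := Cfsg.EssentialSmall.inv_mul_mem_of_step hj (fun y hy => fil_invariant 5 D.r hy)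
      (fun y hy => fil_invariant 4 D.r hy) (G.relIndex_four h3) x hx
    exact (QuotientGroup.eq.mpr h).symm
  have ab : ∀ y : E, y ∈ fil E 1 := mem_one
  -- images of the third layer
  have hrc : c⁻¹ * D.r c ∈ fil E 3 := by
    rw [← QuotientGroup.eq]
    show pr E (1 + 1 + 1) c = pr E (1 + 1 + 1) (D.r c)
    rw [map_commutatorElement D.r, hra, ← pr_congr (ab (a * b)) (ab b) (by simp) hrb,
      pr_comm_mul_left (ab b) (ab b), show ⁅b, b⁆ = 1 by simp, map_one, mul_one]
  have hrd : (d * f)⁻¹ * D.r d ∈ fil E 4 := by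
    rw [← QuotientGroup.eq]
    show pr E (2 + 1 + 1) (d * f) = pr E (2 + 1 + 1) (D.r d)
    rw [map_commutatorElement D.r c a, ← pr_congr (c_mem a b) (ab (a * b)) hrc (by rw [hra]; simp),
      pr_comm_mul_right (c_mem a b) (ab b), map_mul]
  have hrf : f⁻¹ * D.r f ∈ fil E 4 := by
    rw [← QuotientGroup.eq]
    show pr E (2 + 1 + 1) f = pr E (2 + 1 + 1) (D.r f)
    rw [map_commutatorElement D.r c b, ← pr_congr (c_mem a b) (ab b) hrc hrb]
  have hd3 := cx_mem a b a
  have hf3 := cx_mem a b b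
  have e5 := hfix _ (fil_commutator_mem hf3 (ab a))
  have h1 : pr E (3 + 1 + 1) ⁅f, b⁆ = 1 := by
    change pr E (3 + 1 + 1) (D.r ⁅f, a⁆) = pr E (3 + 1 + 1) ⁅f, a⁆ at e5
    rw [map_commutatorElement D.r f a, ← pr_congr hf3 (ab (a * b)) hrf (by rw [hra]; simp),
      pr_comm_mul_right hf3 (ab b), mul_eq_left] at e5
    exact e5
  have h2 : pr E (3 + 1 + 1) ⁅d, b⁆ * pr E (3 + 1 + 1) ⁅f, a⁆ = 1 := by
    have e6 := hfix _ (fil_commutator_mem hd3 (ab a))
    change pr E (3 + 1 + 1) (D.r ⁅d, a⁆) = pr E (3 + 1 + 1) ⁅d, a⁆ at e6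
    rw [map_commutatorElement D.r d a, ← pr_congr (mul_mem hd3 hf3) (ab (a * b)) hrd (by rw [hra]; simp),
      pr_comm_mul_left hf3 (ab (a * b)), pr_comm_mul_right hd3 (ab b), pr_comm_mul_right hf3 (ab b), h1, mul_one,
      mul_assoc, mul_eq_left] at e6
    exact e6
  have hcen : ∀ x ∈ fil E 4, ∀ q : E, Commute (pr E 5 x) (pr E 5 q) := fun x hx q =>
    pr_comm (i := 4) (j := 1) hx (ab q)
  have h3' : pr E 5 ⁅f, a⁆ = pr E 5 ⁅d, b⁆ := by
    have hc3 : ∀ x ∈ fil E 3, Commute (pr E 5 c) (pr E 5 x) := fun x hx => pr_comm (i := 2) (j := 3) (c_mem a b) hx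
    have e : a * f * a⁻¹ = ⁅(d)⁻¹ * c, c * b⁆ := by simp [commutatorElement_def, mul_assoc]
    have e' : ⁅(d)⁻¹ * c, c * b⁆ = (d)⁻¹ * (c * f * (c)⁻¹) * d * ⁅(d)⁻¹, c⁆ * (c * ⁅(d)⁻¹, b⁆ * (c)⁻¹) := by
      simp only [commutatorElement_def]; group
    have e1 : pr E 5 (a * f * a⁻¹) = pr E 5 f * (pr E 5 ⁅d, b⁆)⁻¹ := by
      have q1 : pr E 5 ⁅(d)⁻¹, c⁆ = 1 := pr_eq_one.mpr (fil_commutator_mem (inv_mem hd3) (c_mem a b))
      have q2 : pr E 5 ⁅(d)⁻¹, b⁆ = (pr E 5 ⁅d, b⁆)⁻¹ := by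
        have h := pr_comm_mul_left (x := d) (inv_mem hd3) (ab b)
        rw [mul_inv_cancel, commutatorElement_one_left, map_one] at h
        exact (inv_eq_of_mul_eq_one_right h.symm).symm
      rw [e, e', map_mul, map_mul, map_mul, map_mul, q1, mul_one]
      simp only [map_mul, map_inv, q2]
      rw [(hc3 _ hf3).eq, mul_inv_cancel_right,
        (show Commute (pr E 5 f) (pr E 5 d) from commutatorElement_eq_one_iff_mul_comm.mp (by
          rw [← map_commutatorElement]
          exact pr_eq_one.mpr (fil_antitone (by norm_num) (fil_commutator_mem hf3 hd3)))).inv_right.symm.eq,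
        inv_mul_cancel_right, ((hcen _ (fil_commutator_mem hd3 (ab b)) c).inv_left).symm.eq, mul_inv_cancel_right]
    have e2 : ⁅f, a⁆ = f * (a * f * a⁻¹)⁻¹ := by simp only [commutatorElement_def]; group
    rw [e2, map_mul, map_inv, e1, mul_inv_rev, inv_inv, ← mul_assoc, ← (hcen _ (fil_commutator_mem hd3 (ab b)) f).eq,
      mul_inv_cancel_right]
  have h4 : pr E 5 ⁅d, b⁆ = 1 := by
    have hsq : pr E 5 ⁅d, b⁆ ^ 2 = 1 := by rw [pow_two]; nth_rw 2 [← h3']; exact h2
    have hp1 : pr E 5 ⁅d, b⁆ ^ p = 1 := by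
      rw [← map_pow]
      exact pr_eq_one.mpr (G.pow_four_mem (fil_commutator_mem hd3 (ab b)))
    have hco := pow_gcd_eq_one.mpr ⟨hsq, hp1⟩
    have h2p : p ≠ 2 := by have := D.five; omega
    rwa [Nat.coprime_primes Nat.prime_two hpf.out |>.mpr (Ne.symm h2p), pow_one] at hco
  have hb3 : b ∈ annih E 3 5 := by
    refine mem_annih.mpr fun w hw => ?_
    refine commutator_mem_of_gens (i := 3) (T := {d, f}) G.gen_three (fun y hy => fil_commutator_mem hy (ab b)) ?_ hw
    rintro _ (rfl | rfl)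
    · exact pr_eq_one.mp h4
    · exact pr_eq_one.mp h1
  exact G.b_not (G.annih_le (i := 3) (k := 5) (by norm_num) hne le_rfl hb3)

end Two

end CfsgLib.RankThreePearl
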