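import Cfsg.Agent.Lib.Fusion.RankThreePearl.Char
import Cfsg.Agent.Lib.Fusion.RankThree.Main
import Cfsg.Agent.Lib.Fusion.RankTwoResistant.Frame
import Cfsg.Agent.Lib.Fusion.EssentialSmall.Cube

/-!
An essential subgroup which is not normal in a group of sectional rank three is a pearl.
-/

set_option autoImplicit false
set_option linter.unusedSectionVars false
set_option linter.style.haveILetI false

namespace CfsgLib.RankThreePearl

open Subgroup Cfsg Cfsg.FusionSystem
open CfsgLib.PolySeq (fil fil_antitone fil_commutator_mem)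
open CfsgLib.AfterFT.OutSolvable (frattiniHom)
open scoped commutatorElement

universe u

variable {Ω : Type u} [Group Ω] {S E : Subgroup Ω} [Finite S] {p : ℕ} [hpf : Fact p.Prime] {F : FusionSystem S}

theorem isPGroup_frattini_ker {E : Type*} [Group E] [Finite E] (hE : IsPGroup p E) :
    IsPGroup p (frattiniHom E).ker := by
  haveI : Fact (IsPGroup p E) := ⟨hE⟩
  exact (MaxClassEssential.isPGroup_ker_lin (p := p) (E := E)).to_le fun a ha =>
    MonoidHom.mem_ker.mpr (MaxClassEssential.lin_eq_one.mpr (CfsgLib.AfterFT.OutSolvable.mem_frattini_of_ker ha))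

/-- An element trivial on the Frattini quotient lies in the essential subgroup. -/
theorem mem_of_trivial (hS : IsPGroup p S) (hF : F.IsSaturated p) (hE : F.IsEssential p E) {g : Ω}
    (hg : g ∈ normalizerIn S E)
    (h : ∀ e : E, e⁻¹ * E.normalizerMonoidHom ⟨g, hg.2⟩ e ∈ frattini E) : g ∈ E := by
  have hES := hE.1.1
  haveI : Finite E := finite_of_le hES
  haveI := finite_autGroup (F := F) hES
  haveI : ((frattiniHom E).ker.subgroupOf (F.autGroup E)).Normal := normal_subgroupOf
  have hmem : E.normalizerMonoidHom ⟨g, hg.2⟩ ∈ F.autGroup E :=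
    autInducedBy_le_autGroup hES (mem_autInducedBy_iff.mpr ⟨g, hg.1, hg.2, fun _ => rfl⟩)
  refine Cfsg.RankTwoResistant.mem_of_inner hE hg.1 (fun _ => rfl) (Cfsg.RankTwoResistant.normal_le_inn hS hF hE
    (K := (frattiniHom E).ker.subgroupOf (F.autGroup E))
    ((isPGroup_frattini_ker (hS.to_le hES)).comap_of_injective _ (F.autGroup E).subtype_injective)
    (a := ⟨_, hmem⟩) ?_)
  refine mem_subgroupOf.mpr (MonoidHom.mem_ker.mpr (MulEquiv.ext fun q => ?_))
  obtain ⟨e, rfl⟩ := QuotientGroup.mk_surjective q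
  exact (QuotientGroup.eq.mpr (h e)).symm

/-- The action on the Frattini quotient is irreducible. -/
theorem irr_of_essential (hS : IsPGroup p S) (hF : F.IsSaturated p) (hE : F.IsEssential p E)
    (hidx : (frattini E).index ≤ p ^ 2) (M : Subgroup E) (hΦ : frattini E ≤ M)
    (hinv : ∀ (α : MulAut E), ∀ x ∈ M, α x ∈ M) (hM : M ≠ ⊤) : M ≤ frattini E := by
  have hpp := hpf.out
  have hES := hE.1.1
  haveI : Finite E := finite_of_le hES
  haveI := finite_autGroup (F := F) hES
  have hEp : IsPGroup p E := hS.to_le hES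
  by_contra hne
  obtain ⟨i, hi⟩ : ∃ i, M.index = p ^ i := hEp.index M
  obtain ⟨j, hj⟩ : ∃ j, (frattini E).relIndex M = p ^ j := (hEp.to_subgroup M).index _
  have hi0 : i ≠ 0 := fun h => hM (index_eq_one.mp (by rw [hi, h, pow_zero]))
  have hj0 : j ≠ 0 := fun h => hne (relIndex_eq_one.mp (by rw [hj, h, pow_zero]))
  have hij : i + j ≤ 2 := by
    refine (Nat.pow_le_pow_iff_right hpp.one_lt).mp (le_trans (le_of_eq ?_) hidx)
    rw [← relIndex_mul_index hΦ, hi, hj, pow_add, mul_comm]
  obtain rfl : i = 1 := by omega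
  obtain rfl : j = 1 := by omega
  rw [pow_one] at hi hj
  set π := QuotientGroup.mk' (frattini E)
  set L := M.map π
  let ρ : F.autGroup E →* MulAut (E ⧸ frattini E) := (frattiniHom E).comp (F.autGroup E).subtype
  have hL : ∀ (a : F.autGroup E), ∀ q ∈ L, ρ a q ∈ L := by
    rintro a _ ⟨x, hx, rfl⟩
    exact ⟨(a : MulAut E) x, hinv _ x hx, rfl⟩
  set Q := (Cfsg.SmallCentre.stab L L le_rfl).comap ρ
  haveI : Q.Normal := by
    refine ⟨fun q hq a => ?_⟩
    obtain ⟨q1, -, q3⟩ := mem_comap.mp hq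
    have hback : ∀ x ∈ L, (ρ a)⁻¹ x ∈ L := fun x hx => by rw [← map_inv]; exact hL a⁻¹ x hx
    have f1 : ∀ x ∈ L, ρ (a * q * a⁻¹) x = x := fun x hx => by
      rw [map_mul, map_mul, map_inv, MulAut.mul_apply, MulAut.mul_apply, q1 _ (hback x hx), MulAut.apply_inv_self]
    refine mem_comap.mpr ⟨f1, fun x hx => ?_, fun x => ?_⟩
    · rw [f1 x hx, inv_mul_cancel]; exact one_mem _
    · rw [map_mul, map_mul, map_inv, MulAut.mul_apply, MulAut.mul_apply]
      have h := hL a _ (q3 ((ρ a)⁻¹ x))
      rwa [map_mul, map_inv, MulAut.apply_inv_self] at h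
  have hQp : IsPGroup p Q := by
    refine (Cfsg.SmallCentre.isPGroup_stab (hEp.to_quotient _) le_rfl).comap_of_ker_isPGroup ρ ?_
    exact ((isPGroup_frattini_ker hEp).comap_of_injective _ (F.autGroup E).subtype_injective).to_le fun a ha => ha
  refine Cfsg.RankTwoResistant.false_of_normal hS hF hE (K := Q) hQp fun a ha => ?_
  obtain ⟨n, hn⟩ := Cfsg.EssentialSmall.pow_eq_one_of_mem_autInducedBy hS (mem_subgroupOf.mp ha)
  have h1 : ∀ x ∈ M, x⁻¹ * (a : MulAut E) x ∈ frattini E :=
    Cfsg.EssentialSmall.inv_mul_mem_of_step hn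
      (fun x hx => characteristic_iff_map_le.mp (inferInstance : (frattini E).Characteristic) _ ⟨x, hx, rfl⟩)
      (hinv _) hj.dvd
  have h2 : ∀ x ∈ (⊤ : Subgroup E), x⁻¹ * (a : MulAut E) x ∈ M :=
    Cfsg.EssentialSmall.inv_mul_mem_of_step hn (hinv _) (fun _ _ => mem_top _) (by rw [relIndex_top_right, hi])
  have f1 : ∀ q ∈ L, ρ a q = q := by
    rintro _ ⟨x, hx, rfl⟩
    exact (QuotientGroup.eq.mpr (h1 x hx)).symm
  refine mem_comap.mpr ⟨f1, fun q hq => by rw [f1 q hq, inv_mul_cancel]; exact one_mem _, fun q => ?_⟩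
  obtain ⟨x, rfl⟩ := QuotientGroup.mk_surjective q
  exact ⟨_, h2 x (mem_top x), rfl⟩

/-- An essential subgroup which is not normal is a pearl. -/
theorem pearl_of_not_normal (hp : 5 ≤ p) (hS : IsPGroup p S) (hsr : Cfsg.SectionalPRankLE p 3 ↥S)
    (hF : F.IsSaturated p) (hE : F.IsEssential p E) (hn : ¬ S ≤ normalizer (E : Set Ω)) :
    (Cfsg.IsElementaryAbelian p E ∧ Nat.card E = p ^ 2) ∨
      (Cfsg.IsExtraspecial p ↥E ∧ Nat.card E = p ^ 3 ∧ ∀ x ∈ E, x ^ p = 1) := by
  have hpp := hpf.out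
  have hES := hE.1.1
  haveI : Finite E := finite_of_le hES
  haveI := finite_normalizerIn (S := S) (P := E)
  have hEp : IsPGroup p E := hS.to_le hES
  have hsrE : Cfsg.SectionalPRankLE p 3 E :=
    RankThree.sectional_inj (Subgroup.inclusion hES) (Subgroup.inclusion_injective _) hsr
  have hXe : ∀ x : E ⧸ frattini E, x ^ p = 1 := fun x => by
    obtain ⟨y, rfl⟩ := QuotientGroup.mk_surjective x
    rw [← QuotientGroup.mk_pow, QuotientGroup.eq_one_iff]
    exact CfsgLib.pow_mem_frattini_pGroup hEp y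
  obtain ⟨k, hk⟩ : ∃ k, (frattini E).index = p ^ k := hEp.index _
  have hk3 : k ≤ 3 := by
    haveI : Fact (IsPGroup p E) := ⟨hEp⟩
    have h := hsrE ⊤ ((frattini E).subgroupOf ⊤) ⊤ ⟨⟨fun u v => Subtype.ext ?_⟩⟩ fun u _ => ?_
    · rw [Subgroup.card_top, ← Subgroup.index_eq_card, ← relIndex, relIndex_top_right, hk] at h
      exact (Nat.pow_le_pow_iff_right hpp.one_lt).mp h
    · obtain ⟨x, hx⟩ := QuotientGroup.mk_surjective (u : (⊤ : Subgroup E) ⧸ (frattini E).subgroupOf ⊤)
      obtain ⟨y, hy⟩ := QuotientGroup.mk_surjective (v : (⊤ : Subgroup E) ⧸ (frattini E).subgroupOf ⊤)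
      rw [Subgroup.coe_mul, Subgroup.coe_mul, ← hx, ← hy, ← commutatorElement_eq_one_iff_mul_comm]
      refine (map_commutatorElement (QuotientGroup.mk' ((frattini E).subgroupOf ⊤)) x y).symm.trans ?_
      exact (QuotientGroup.eq_one_iff _).mpr (mem_subgroupOf.mpr
        (CfsgLib.commutator_le_frattini_pGroup hEp (commutator_mem_commutator (mem_top _) (mem_top _))))
    · obtain ⟨x, rfl⟩ := QuotientGroup.mk_surjective u
      rw [← QuotientGroup.mk_pow, QuotientGroup.eq_one_iff]
      exact mem_subgroupOf.mpr (CfsgLib.pow_mem_frattini_pGroup hEp _)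
  have hidx : (frattini E).index ≤ p ^ 2 := by
    rw [hk]
    refine Nat.pow_le_pow_right hpp.pos ?_
    by_contra h
    exact hn (RankThree.le_normalizer_of_rank_three hp hS hsr hF hE (by rw [hk, show k = 3 by omega]))
  set N := normalizerIn S E with hN
  have hEN : E ≤ N := le_normalizerIn hES
  set E₀ := E.subgroupOf N
  haveI : E₀.Normal := ⟨fun x hx y => (mem_normalizer_iff.mp y.2.2 (x : Ω)).mp hx⟩
  let e : E₀ ≃* E := subgroupOfEquivOfLe hEN
  have hE₀p : IsPGroup p E₀ := hEp.of_equiv e.symm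
  have hconj : ∀ (y : N) (x : E₀),
      e (MulAut.conjNormal y x) = E.normalizerMonoidHom ⟨(y : Ω), y.2.2⟩ (e x) := fun y x => Subtype.ext rfl
  have hker : ∀ y : N, (∀ x : E₀, x⁻¹ * MulAut.conjNormal y x ∈ frattini E₀) → y ∈ E₀ := fun y hy => by
    refine mem_subgroupOf.mpr (mem_of_trivial hS hF hE y.2 fun x => ?_)
    obtain ⟨x, rfl⟩ := e.surjective x
    have h := RankThree.frattini_le_comap e hE₀p hEp (hy x)
    rw [mem_comap] at h
    change e (x⁻¹ * MulAut.conjNormal y x) ∈ frattini E at h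
    rwa [map_mul, map_inv, hconj] at h
  have hidx0 : (frattini E₀).index ≤ p ^ 2 := by
    rwa [RankThree.frattini_index_congr (p := p) e.symm hEp]
  -- index of `E` in its normaliser
  set f : N →* MulAut (E₀ ⧸ frattini E₀) := (frattiniHom E₀).comp MulAut.conjNormal with hf
  have hfker : f.ker ≤ E₀ := fun y hy => hker y fun x => by
    have h : f y (QuotientGroup.mk x) = QuotientGroup.mk x := by rw [MonoidHom.mem_ker.mp hy]; rfl
    exact QuotientGroup.eq.mp h.symm
  have hNp : IsPGroup p N := hS.to_le normalizerIn_le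
  obtain ⟨i, hi⟩ := hNp.index E₀
  obtain ⟨g₀, hg₀, hg₀E⟩ := Cfsg.EssentialSmall.exists_moved hS hF hE
  have hNi : E₀.index = p := by
    have hle : E₀.index ≤ p := by
      refine (Nat.le_of_dvd (Nat.pos_of_ne_zero index_ne_zero_of_finite) (index_dvd_of_le hfker)).trans ?_
      rw [index_ker]
      have hRp : IsPGroup p f.range := hNp.of_surjective f.rangeRestrict f.rangeRestrict_surjective
      obtain ⟨r, hr⟩ : ∃ r, (frattini E₀).index = p ^ r := hE₀p.index _
      have hX : Nat.card (E₀ ⧸ frattini E₀) = p ^ r := by rw [← index_eq_card, hr]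
      have hr2 : r ≤ 2 := (Nat.pow_le_pow_iff_right hpp.one_lt).mp (hr ▸ hidx0)
      rcases Nat.lt_or_ge r 2 with h | h
      · refine le_trans (le_of_eq ?_) hpp.one_le
        rw [Subgroup.card_eq_one, eq_bot_iff]
        intro a ha
        obtain ⟨m, hm⟩ := hRp ⟨a, ha⟩
        refine mem_bot.mpr (MulEquiv.ext fun x =>
          Cfsg.RankTwoResistant.fix_of_card_dvd (congrArg Subtype.val hm) ?_ x)
        rw [hX]
        exact (pow_dvd_pow p (show r ≤ 1 by omega)).trans (pow_one p).dvd
      · refine Cfsg.RankTwoResistant.card_autSub_le hRp (by rw [hX, show r = 2 by omega]) fun x => ?_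
        obtain ⟨y, rfl⟩ := QuotientGroup.mk_surjective x
        rw [← QuotientGroup.mk_pow, QuotientGroup.eq_one_iff]
        exact CfsgLib.pow_mem_frattini_pGroup hE₀p y
    rcases i with _ | _ | i
    · exfalso
      rw [pow_zero, index_eq_one] at hi
      exact hg₀E (mem_subgroupOf.mp (hi.ge (mem_top (⟨g₀, hg₀⟩ : N))))
    · rw [hi, pow_one]
    · have : p ^ 2 ≤ p := (Nat.pow_le_pow_right hpp.pos (by omega)).trans (hi ▸ hle)
      nlinarith
  set g : N := ⟨g₀, hg₀⟩
  let D : Two p E₀ :=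
    { pg := hE₀p
      five := hp
      rk := RankThree.sectional_inj e.toMonoidHom e.injective hsrE
      index := hidx0
      r := MulAut.conjNormal g
      r_pow := by
        obtain ⟨j, hj⟩ := hNp g
        exact ⟨j, by rw [← map_pow, hj, map_one]⟩
      inner := ⟨⟨g ^ p, by have h := Subgroup.pow_index_mem E₀ g; rwa [hNi] at h⟩, fun x => by
        rw [← map_pow]; exact Subtype.ext rfl⟩
      moved := by
        by_contra h
        push Not at h
        exact hg₀E (mem_subgroupOf.mp (hker g h))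
      irr := fun M hΦ hinv hM => by
        have h := irr_of_essential hS hF hE hidx (M.map e.toMonoidHom)
          (fun x hx => ⟨e.symm x, hΦ (RankThree.frattini_le_comap e.symm hEp hE₀p hx), e.apply_symm_apply x⟩)
          (fun α x hx => by
            obtain ⟨y, hy, rfl⟩ := hx
            refine ⟨((e.trans α).trans e.symm) y, hinv _ y hy, ?_⟩
            exact e.apply_symm_apply _)
          fun ht => hM (eq_top_iff.mpr fun y _ => by
            obtain ⟨z, hz, hzy⟩ := ht.ge (mem_top (e y))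
            rwa [← e.injective hzy])
        intro x hx
        have h2 := RankThree.frattini_le_comap e.symm hEp hE₀p (h (mem_map_of_mem _ hx))
        simpa using h2 }
  by_cases h3 : fil E₀ 3 = ⊥
  swap
  · exfalso
    have hlt : N < S := lt_of_le_of_ne normalizerIn_le fun h => hn fun x hx => (h.ge hx).2
    obtain ⟨t, ht, htN⟩ := SetLike.exists_of_lt (lt_normalizerIn hS hlt)
    refine htN ⟨ht.1, ?_⟩
    let β : MulAut N := N.normalizerMonoidHom ⟨t, ht.2⟩
    have hchar : ∀ x : N, x ∈ E₀ → β x ∈ E₀ := fun x hx =>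
      char_of_two D (g := g) hNi (fun _ => rfl) hker h3 β hx
    exact Subgroup.mem_normalizer_fintype fun x hx => hchar ⟨x, hEN hx⟩ hx
  -- the pearl
  obtain ⟨a, b, hgen, hb, hab, hbb⟩ := D.exists_gens
  have G : D.Gens a b := ⟨hgen, hb, hab, hbb⟩
  have hexp : ∀ x ∈ E, x ^ p = 1 := by
    intro x hx
    have h := G.pow_mem_three (e.symm ⟨x, hx⟩)
    rw [h3, mem_bot, ← map_pow] at h
    exact congrArg Subtype.val ((map_eq_one_iff _ e.symm.injective).mp h)
  have hc : Nat.card E ≤ p ^ 3 := by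
    rw [← Nat.card_congr e.toEquiv, ← (frattini E₀).card_mul_index, pow_succ' p 2]
    refine Nat.mul_le_mul ?_ hidx0
    rw [D.frattini_eq]
    refine (Subgroup.card_le_of_le ((G.gen_two).trans_eq (by rw [h3, bot_sup_eq]))).trans ?_
    rw [Nat.card_zpowers]
    refine orderOf_le_of_pow_eq_one hpp.pos ?_
    have h := G.c_pow
    rwa [h3, mem_bot] at h
  obtain ⟨m, hm⟩ := hEp.exists_card_eq
  have hm3 : m ≤ 3 := (Nat.pow_le_pow_iff_right hpp.one_lt).mp (hm ▸ hc)
  rcases Nat.lt_or_ge m 2 with h | h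
  · exfalso
    refine Cfsg.EssentialSmall.false_of_series hS hF hE (m := 1) ![⊥, ⊤] rfl rfl (fun α _ i x hx => ?_) fun i => ?_
    · fin_cases i
      · simp only [Fin.zero_eta, Matrix.cons_val_zero, mem_bot] at hx ⊢
        rw [hx, map_one]
      · exact mem_top _
    · fin_cases i
      show (⊥ : Subgroup E).relIndex ⊤ ∣ p
      rw [relIndex_bot_left, Subgroup.card_top, hm]
      exact (pow_dvd_pow p (show m ≤ 1 by omega)).trans (pow_one p).dvd
  rcases h.eq_or_lt with rfl | h'
  · left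
    exact ⟨⟨⟨⟨IsPGroup.commutative_of_card_eq_prime_sq hm⟩⟩, hexp⟩, hm⟩
  · obtain rfl : m = 3 := by omega
    refine Or.inr ⟨(Cfsg.EssentialSmall.extraspecial_cube hm fun habl => ?_).1, hm, hexp⟩
    have hbot : frattini E ≤ ⊥ := CfsgLib.RankFrattini.frattini_le_of_elementary hEp _
      (fun u v => by rw [mem_bot, commutatorElement_eq_one_iff_mul_comm]; exact habl u v)
      fun u => by rw [mem_bot]; exact Subtype.ext (hexp u u.2)
    rw [le_bot_iff.mp hbot, Subgroup.index_bot, hm] at hidx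
    have := (Nat.pow_le_pow_iff_right hpp.one_lt).mp hidx
    omega

end CfsgLib.RankThreePearl
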